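import Mathlib

/-!
Groups of odd prime exponent acting on an elementary abelian 2-group with point stabilisers of
constant order are semiregular; Frobenius groups have a fixed point in every such action.
-/

set_option autoImplicit false
set_option linter.style.haveILetI false
set_option linter.unusedFintypeInType false

namespace Cfsg.Agent.H76.FiveOrbits

open Finset

variable {A T : Type*} [Group A] [CommGroup T] [MulDistribMulAction A T]

/-- The norm of `v` along the first `m` powers of `a`. -/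
def nrm (m : ℕ) (a : A) (v : T) : T := ∏ i ∈ range m, (a ^ i) • v

theorem nrm_mul (m : ℕ) (a : A) (v w : T) : nrm m a (v * w) = nrm m a v * nrm m a w := by
  simp [nrm, smul_mul', prod_mul_distrib]

theorem smul_prod' {ι : Type*} (s : Finset ι) (f : ι → T) (a : A) :
    a • ∏ i ∈ s, f i = ∏ i ∈ s, a • f i :=
  map_prod (MulDistribMulAction.toMonoidHom T a) f s

theorem smul_nrm (m : ℕ) (y a : A) (v : T) :
    y • nrm m a v = nrm m (y * a * y⁻¹) (y • v) := by
  rw [nrm, nrm, smul_prod']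
  refine prod_congr rfl fun i _ => ?_
  rw [conj_pow, smul_smul, smul_smul, mul_assoc, mul_assoc, inv_mul_cancel, mul_one]

theorem smul_nrm_self {m : ℕ} {a : A} (ha : a ^ m = 1) (v : T) : a • nrm m a v = nrm m a v := by
  rw [nrm, smul_prod']
  have h := prod_range_succ' (fun i => (a ^ i) • v) m
  rw [prod_range_succ, ha, pow_zero] at h
  exact (mul_right_cancel h.symm ▸ prod_congr rfl fun i _ => by rw [smul_smul, pow_succ'])

theorem pow_odd (h2 : ∀ x : T, x * x = 1) {m : ℕ} (hm : Odd m) (v : T) : v ^ m = v := by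
  obtain ⟨k, rfl⟩ := hm
  rw [pow_succ, pow_mul, pow_two, h2, one_pow, one_mul]

theorem nrm_fixed (h2 : ∀ x : T, x * x = 1) {m : ℕ} (hm : Odd m) {a : A} {v : T}
    (hv : a • v = v) : nrm m a v = v := by
  rw [nrm, prod_congr rfl (g := fun _ => v), prod_const, card_range, pow_odd h2 hm]
  intro i _
  clear * - hv
  induction i with
  | zero => simp
  | succ i ih => rw [pow_succ, mul_smul, hv, ih]

theorem nrm_eq_one {m : ℕ} {a : A} (ha : a ^ m = 1) (hfpf : ∀ t : T, a • t = t → t = 1) (v : T) :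
    nrm m a v = 1 := hfpf _ (smul_nrm_self ha v)

/-- If `nrm a u = 1 ≠ u` for commuting `a`, `b` of prime exponent, some `b * a ^ j` has a non-trivial
fixed point. -/
theorem exists_line_fixed (h2 : ∀ x : T, x * x = 1) {m : ℕ} (hm : m.Prime) (hodd : Odd m)
    {a b : A} (ha : a ^ m = 1) (hb : b ^ m = 1) (hab : Commute a b) {u : T} (hu : u ≠ 1)
    (hnu : nrm m a u = 1) : ∃ j : ℕ, ∃ t : T, t ≠ 1 ∧ (b * a ^ j) • t = t := by
  by_contra! hno
  have hline : ∀ j ∈ range m, nrm m (b * a ^ j) u = 1 := by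
    intro j _
    refine nrm_eq_one ?_ (fun t ht => ?_) u
    · rw [(hab.symm.pow_right j).mul_pow, hb, one_mul, ← pow_mul, mul_comm, pow_mul, ha, one_pow]
    · by_contra h1
      exact hno j t h1 ht
  have hmain : ∏ j ∈ range m, nrm m (b * a ^ j) u = u := by
    simp only [nrm]
    rw [prod_comm, prod_eq_single 0]
    · simp [pow_odd h2 hodd]
    · intro i hi hi0
      have hco : i.Coprime m := ((Nat.Prime.coprime_iff_not_dvd hm).2 fun hd =>
        absurd (Nat.le_of_dvd (Nat.pos_of_ne_zero hi0) hd) (by have := mem_range.1 hi; omega)).symm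
      have : ∀ j ∈ range m, ((b * a ^ j) ^ i) • u = (b ^ i) • ((a ^ ((j * i) % m)) • u) := by
        intro j _
        rw [(hab.symm.pow_right j).mul_pow, ← pow_mul, mul_smul]
        congr 2
        conv_lhs => rw [← Nat.mod_add_div (j * i) m, pow_add, pow_mul, ha, one_pow, mul_one]
      rw [prod_congr rfl this, ← smul_prod']
      have hbij : ∏ j ∈ range m, (a ^ ((j * i) % m)) • u = nrm m a u := by
        rw [nrm]
        refine prod_nbij (fun j => (j * i) % m) (fun j _ => mem_range.2 (Nat.mod_lt _ hm.pos))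
          ?_ ?_ (fun j _ => rfl)
        · intro x hx y hy hxy
          have hx' := mem_range.1 hx
          have hy' := mem_range.1 hy
          have := Nat.ModEq.cancel_right_of_coprime (by exact (Nat.coprime_comm.1 hco) : m.Coprime i)
            (show x * i ≡ y * i [MOD m] from hxy)
          rwa [Nat.ModEq, Nat.mod_eq_of_lt hx', Nat.mod_eq_of_lt hy'] at this
        · intro y hy
          have hsurj : Set.SurjOn (fun j => (j * i) % m) (range m : Set ℕ) (range m : Set ℕ) := by
            refine Finset.surjOn_of_injOn_of_card_le _ (fun j _ => mem_range.2 (Nat.mod_lt _ hm.pos))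
              ?_ le_rfl
            intro x hx y hy hxy
            have hx' := mem_range.1 hx
            have hy' := mem_range.1 hy
            have := Nat.ModEq.cancel_right_of_coprime
              (by exact (Nat.coprime_comm.1 hco) : m.Coprime i)
              (show x * i ≡ y * i [MOD m] from hxy)
            rwa [Nat.ModEq, Nat.mod_eq_of_lt hx', Nat.mod_eq_of_lt hy'] at this
          exact hsurj hy
      rw [hbij, hnu, smul_one]
    · intro h
      exact absurd (mem_range.2 hm.pos) h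
  exact hu (hmain.symm.trans (prod_eq_one hline))

/-- In a Frobenius group `⟨a, b⟩` with `a` fixed-point-free, `b` has a non-trivial fixed point. -/
theorem exists_fixed_frobenius (h2 : ∀ x : T, x * x = 1) [Nontrivial T] {p e : ℕ} (hp : Odd p)
    {a b : A} (ha : a ^ p = 1) (hb : b ^ e = 1)
    (hnorm : ∀ i : ℕ, (b ^ i)⁻¹ * a * b ^ i ∈ Subgroup.zpowers a)
    (hnc : ∀ i : ℕ, i ≠ 0 → i < e → (b ^ i)⁻¹ * a * b ^ i ≠ a)
    (hfpf : ∀ y ∈ Subgroup.zpowers a, y ≠ 1 → ∀ t : T, y • t = t → t = 1) (he : 0 < e) :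
    ∃ t : T, t ≠ 1 ∧ b • t = t := by
  by_contra! hno
  obtain ⟨u, hu⟩ := exists_ne (1 : T)
  have hconj : ∀ x : ℕ, nrm e (a ^ x * b * (a ^ x)⁻¹) u = 1 := by
    intro x
    refine nrm_eq_one (by rw [conj_pow, hb, mul_one, mul_inv_cancel]) (fun t ht => ?_) u
    by_contra h1
    refine hno ((a ^ x)⁻¹ • t) (fun h => h1 ?_) ?_
    · simpa [smul_inv_smul] using congrArg (a ^ x • ·) h
    · conv_rhs => rw [← ht]
      rw [smul_smul, smul_smul]
      group
  have hmain : ∏ x ∈ range p, nrm e (a ^ x * b * (a ^ x)⁻¹) u = u := by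
    simp only [nrm]
    rw [prod_comm, prod_eq_single 0]
    · simp [pow_odd h2 hp]
    · intro i hi hi0
      set c := (b ^ i)⁻¹ * a * b ^ i * a⁻¹ with hc
      have hcmem : c ∈ Subgroup.zpowers a :=
        mul_mem (hnorm i) (inv_mem (Subgroup.mem_zpowers a))
      have hc1 : c ≠ 1 := fun h => hnc i hi0 (mem_range.1 hi)
        (by rwa [hc, mul_inv_eq_one] at h)
      have : ∀ x ∈ range p, ((a ^ x * b * (a ^ x)⁻¹) ^ i) • u = (b ^ i) • ((c ^ x) • u) := by
        intro x _
        rw [smul_smul]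
        congr 1
        have hca : Commute ((b ^ i)⁻¹ * a * b ^ i) a⁻¹ := by
          obtain ⟨z, hz⟩ := Subgroup.mem_zpowers_iff.1 (hnorm i)
          rw [← hz]
          exact ((Commute.refl a).zpow_left z).inv_right
        rw [conj_pow, hc, hca.mul_pow, inv_pow]
        have hcp := conj_pow (a := (b ^ i)⁻¹) (b := a) (i := x)
        rw [inv_inv] at hcp
        rw [hcp]
        group
      rw [prod_congr rfl this, ← smul_prod']
      have hcp : c ^ p = 1 := by
        obtain ⟨z, hz⟩ := Subgroup.mem_zpowers_iff.1 hcmem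
        rw [← hz, ← zpow_natCast, ← zpow_mul, mul_comm, zpow_mul, zpow_natCast, ha, one_zpow]
      have : nrm p c u = 1 := nrm_eq_one hcp (hfpf c hcmem hc1) u
      rw [nrm] at this
      rw [this, smul_one]
    · intro h
      exact absurd (mem_range.2 he) h
  exact hu (hmain.symm.trans (prod_eq_one fun x _ => hconj x))

/-- An exponent-`m` group acting faithfully with stabilisers of constant order is semiregular of
order `m`. -/
theorem semiregular_of_constant [Finite A] [Nontrivial A] [Nontrivial T]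
    (h2 : ∀ x : T, x * x = 1) (hfaith : ∀ a : A, (∀ t : T, a • t = t) → a = 1)
    {m : ℕ} (hm : m.Prime) (hodd : Odd m) (hexp : ∀ a : A, a ^ m = 1)
    (hconst : ∀ t t' : T, t ≠ 1 → t' ≠ 1 →
      Nat.card (MulAction.stabilizer A t) = Nat.card (MulAction.stabilizer A t')) :
    Nat.card A = m ∧ ∀ a : A, a ≠ 1 → ∀ t : T, a • t = t → t = 1 := by
  classical
  haveI := Fact.mk hm
  have hord : ∀ a : A, a ≠ 1 → orderOf a = m := fun a ha => orderOf_eq_prime (hexp a) ha
  have hP : IsPGroup m A := fun a => ⟨1, by rw [pow_one]; exact hexp a⟩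
  obtain ⟨k, hk⟩ := IsPGroup.iff_card.1 hP
  have hk0 : k ≠ 0 := fun h => by
    rw [h, pow_zero] at hk; exact absurd hk (Finite.one_lt_card (α := A)).ne'
  haveI hcn : Nontrivial (Subgroup.center A) := hP.center_nontrivial
  obtain ⟨⟨z, hzc⟩, hz1⟩ := exists_ne (1 : Subgroup.center A)
  replace hz1 : z ≠ 1 := fun h => hz1 (Subtype.ext h)
  have hzcom : ∀ y, Commute y z := fun y => Subgroup.mem_center_iff.1 hzc y
  have hzfix : ∀ a : T, z • a = a → a = 1 := by
    intro a hza
    by_contra ha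
    obtain ⟨w, hw⟩ : ∃ w : T, z • w ≠ w := by
      by_contra! h; exact hz1 (hfaith z h)
    set b := w * nrm m z w with hb
    have hb1 : b ≠ 1 := by
      intro h
      refine hw ?_
      have : w = nrm m z w := mul_eq_one_iff_eq_inv.1 h |>.trans (eq_inv_of_mul_eq_one_left (h2 _)).symm
      rw [this]; exact smul_nrm_self (hexp z) w
    have hnb : nrm m z b = 1 := by
      rw [hb, nrm_mul, nrm_fixed h2 hodd (smul_nrm_self (hexp z) w), h2]
    have hab1 : a * b ≠ 1 := by
      intro h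
      have := congrArg (nrm m z) h
      rw [nrm_mul, hnb, mul_one, nrm_fixed h2 hodd hza] at this
      exact ha (this.trans (nrm_fixed h2 hodd (smul_one z)))
    have hle : MulAction.stabilizer A (a * b) ≤ MulAction.stabilizer A a := by
      intro y hy
      rw [MulAction.mem_stabilizer_iff] at hy ⊢
      have := smul_nrm m y z (a * b)
      rwa [hy, (hzcom y).eq, mul_inv_cancel_right, nrm_mul, hnb, mul_one,
        nrm_fixed h2 hodd hza] at this
    have heq := Subgroup.eq_of_le_of_card_ge hle (hconst a (a * b) ha hab1).le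
    have hz' : z ∈ MulAction.stabilizer A (a * b) := by rw [heq]; exact hza
    rw [MulAction.mem_stabilizer_iff, smul_mul', hza] at hz'
    exact hb1 ((nrm_fixed h2 hodd (mul_left_cancel hz')).symm.trans hnb)
  by_cases hk1 : k = 1
  · rw [hk1, pow_one] at hk
    refine ⟨hk, fun a ha t hat => ?_⟩
    have : z ∈ Subgroup.zpowers a := by
      rw [zpowers_eq_top_of_prime_card hk ha]; trivial
    exact hzfix t (by
      obtain ⟨i, hi⟩ := Subgroup.mem_zpowers_iff.1 this
      rw [← hi]
      exact Subgroup.zpow_mem (MulAction.stabilizer A t) hat i)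
  exfalso
  set Z := Subgroup.zpowers z with hZ
  haveI : Z.Normal := ⟨fun x hx g => by
    obtain ⟨i, rfl⟩ := Subgroup.mem_zpowers_iff.1 hx
    rw [((hzcom g).zpow_right i).eq, mul_inv_cancel_right]; exact hx⟩
  have hQ : IsPGroup m (A ⧸ Z) := hP.to_quotient Z
  haveI : Nontrivial (A ⧸ Z) := by
    rw [← Finite.one_lt_card_iff_nontrivial]
    have := Subgroup.card_eq_card_quotient_mul_card_subgroup Z
    rw [hk, Nat.card_zpowers, hord z hz1] at this
    by_contra hle
    have h1 : Nat.card (A ⧸ Z) = 1 := by have := Nat.card_pos (α := A ⧸ Z); omega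
    rw [h1, one_mul] at this
    exact hk1 (Nat.pow_right_injective hm.two_le (this.trans (pow_one m).symm))
  haveI : Nontrivial (Subgroup.center (A ⧸ Z)) := hQ.center_nontrivial
  obtain ⟨⟨bq, hbq⟩, hbq1⟩ := exists_ne (1 : Subgroup.center (A ⧸ Z))
  obtain ⟨b, rfl⟩ := QuotientGroup.mk_surjective bq
  have hbZ : b ∉ Z := fun h => hbq1 (Subtype.ext ((QuotientGroup.eq_one_iff b).2 h))
  have hbc : ∀ y, y * b * y⁻¹ * b⁻¹ ∈ Z := fun y => by
    rw [← QuotientGroup.eq_one_iff]
    simp only [QuotientGroup.mk_mul, QuotientGroup.mk_inv]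
    rw [Subgroup.mem_center_iff.1 hbq y, mul_inv_cancel_right, mul_inv_cancel]
  set M := Subgroup.closure ({z, b} : Set A) with hM
  have hzM : z ∈ M := Subgroup.subset_closure (Or.inl rfl)
  have hbM : b ∈ M := Subgroup.subset_closure (Or.inr rfl)
  haveI hMnorm : M.Normal := ⟨fun x hx g => by
    induction hx using Subgroup.closure_induction with
    | mem x hx =>
      rcases hx with rfl | rfl
      · rw [(hzcom g).eq, mul_inv_cancel_right]; exact hzM
      · have h : g * x * g⁻¹ * x⁻¹ * x ∈ M := mul_mem (Subgroup.zpowers_le.2 hzM (hbc g)) hbM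
        rwa [inv_mul_cancel_right] at h
    | one => simp
    | mul x y _ _ hx hy => rw [← conj_mul]; exact mul_mem hx hy
    | inv x _ hx => rw [← conj_inv]; exact inv_mem hx⟩
  have hMc : IsMulCommutative M := by
    refine Subgroup.isMulCommutative_closure fun x hx y hy => ?_
    rcases hx with rfl | rfl <;> rcases hy with rfl | rfl
    · rfl
    · exact (hzcom y).eq.symm
    · exact (hzcom x).eq
    · rfl
  have hcomm : ∀ x ∈ M, ∀ y ∈ M, Commute x y := fun x hx y hy =>
    congrArg Subtype.val (hMc.is_comm.comm ⟨x, hx⟩ ⟨y, hy⟩)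
  have hMz : ∀ x ∈ M, ∀ y ∈ M, x ≠ 1 → y ∉ Subgroup.zpowers x → ∀ t : T,
      x • t = t → y • t = t → t = 1 := by
    intro x hx y hy hx1 hyx t hxt hyt
    refine hzfix t ?_
    have hMle : M ≤ Subgroup.zpowers z ⊔ Subgroup.zpowers b := by
      rw [hM, Subgroup.closure_le]
      rintro u (rfl | rfl)
      · exact Subgroup.mem_sup_left (Subgroup.mem_zpowers _)
      · exact Subgroup.mem_sup_right (Subgroup.mem_zpowers _)
    have hMcard : Nat.card M ≤ m * m := by
      calc Nat.card M ≤ Nat.card ↥(Subgroup.zpowers z ⊔ Subgroup.zpowers b) :=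
            Nat.le_of_dvd Nat.card_pos (Subgroup.card_dvd_of_le hMle)
        _ ≤ Nat.card ↥(Subgroup.zpowers z) * Nat.card ↥(Subgroup.zpowers b) := by
            rw [← Nat.card_prod]
            refine Nat.card_le_card_of_surjective
              (fun u : ↥(Subgroup.zpowers z) × ↥(Subgroup.zpowers b) =>
                (⟨u.1 * u.2, Subgroup.mul_mem_sup u.1.2 u.2.2⟩ :
                  ↥(Subgroup.zpowers z ⊔ Subgroup.zpowers b))) ?_
            rintro ⟨v, hv⟩
            obtain ⟨c, hc, d, hd, rfl⟩ := Subgroup.mem_sup_of_normal_left.1 hv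
            exact ⟨⟨⟨c, hc⟩, ⟨d, hd⟩⟩, rfl⟩
        _ = m * m := by
            rw [Nat.card_zpowers, Nat.card_zpowers, hord z hz1,
              hord b (fun h => hbZ (h ▸ one_mem Z))]
    set L := Subgroup.zpowers x ⊔ Subgroup.zpowers y with hL
    have hLM : L ≤ M := sup_le (Subgroup.zpowers_le.2 hx) (Subgroup.zpowers_le.2 hy)
    have hlt : Subgroup.zpowers x < L :=
      lt_of_le_of_ne le_sup_left fun h => hyx (h ▸ Subgroup.mem_sup_right (Subgroup.mem_zpowers y))
    have hLc : m * m ≤ Nat.card L := by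
      obtain ⟨j, hj⟩ := IsPGroup.iff_card.1 (hP.to_subgroup L)
      have h1 := Set.ncard_lt_ncard hlt (Set.toFinite _)
      rw [← Nat.card_coe_set_eq, ← Nat.card_coe_set_eq] at h1
      simp only [SetLike.coe_sort_coe] at h1
      rw [Nat.card_zpowers, hord x hx1, hj] at h1
      rw [hj, ← pow_two]
      refine Nat.pow_le_pow_right hm.pos ?_
      by_contra hj2
      have : m ^ j ≤ m ^ 1 := Nat.pow_le_pow_right hm.pos (by omega)
      rw [pow_one] at this; omega
    have hLeq : L = M := Subgroup.eq_of_le_of_card_ge hLM (hMcard.trans hLc)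
    have : L ≤ MulAction.stabilizer A t :=
      sup_le (Subgroup.zpowers_le.2 hxt) (Subgroup.zpowers_le.2 hyt)
    exact this (hLeq ▸ hzM)
  -- two lines with fixed points
  obtain ⟨u, hu⟩ := exists_ne (1 : T)
  obtain ⟨j, v₀, hv₀, hk0v⟩ := exists_line_fixed h2 hm hodd (hexp z) (hexp b) (hzcom b).symm hu
    (nrm_eq_one (hexp z) hzfix u)
  set k₀ := b * z ^ j with hk₀
  have hk₀M : k₀ ∈ M := mul_mem hbM (pow_mem hzM j)
  have hk₀1 : k₀ ≠ 1 := by
    intro h
    refine hbZ ?_
    rw [hk₀, mul_eq_one_iff_eq_inv] at h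
    rw [h]; exact inv_mem (Subgroup.npow_mem_zpowers z j)
  have hzk₀ : z ∉ Subgroup.zpowers k₀ := fun h => by
    obtain ⟨i, hi⟩ := Subgroup.mem_zpowers_iff.1 h
    refine hv₀ (hzfix v₀ ?_)
    rw [← hi]
    exact Subgroup.zpow_mem (MulAction.stabilizer A v₀) hk0v i
  obtain ⟨w, hw⟩ : ∃ w : T, k₀ • w ≠ w := by
    by_contra! h; exact hk₀1 (hfaith _ h)
  set u' := w * nrm m k₀ w with hu'
  have hu'1 : u' ≠ 1 := by
    intro h
    refine hw ?_
    have : w = nrm m k₀ w :=
      mul_eq_one_iff_eq_inv.1 h |>.trans (eq_inv_of_mul_eq_one_left (h2 _)).symm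
    rw [this]; exact smul_nrm_self (hexp _) w
  have hnu' : nrm m k₀ u' = 1 := by
    rw [hu', nrm_mul, nrm_fixed h2 hodd (smul_nrm_self (hexp _) w), h2]
  obtain ⟨j', v₁, hv₁, hk1v⟩ := exists_line_fixed h2 hm hodd (hexp k₀) (hexp z)
    (hzcom k₀) hu'1 hnu'
  set k₁ := z * k₀ ^ j' with hk₁
  have hk₁M : k₁ ∈ M := mul_mem hzM (pow_mem hk₀M j')
  have hk₁₀ : k₁ ∉ Subgroup.zpowers k₀ := fun h => hzk₀ <| by
    have := mul_mem h (inv_mem (Subgroup.npow_mem_zpowers k₀ j'))
    rwa [hk₁, mul_inv_cancel_right] at this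
  have hk₁1 : k₁ ≠ 1 := fun h => hk₁₀ (h ▸ one_mem _)
  set v := v₀ * v₁ with hv
  have hzero : ∀ k ∈ M, ∀ t : T, ∀ k' ∈ M, k' ≠ 1 → k' • t = t → k ∉ Subgroup.zpowers k' →
      nrm m k t = 1 := by
    intro k hk t k' hk' hk'1 ht hkk'
    refine hMz k' hk' k hk hk'1 hkk' _ ?_ (smul_nrm_self (hexp k) t)
    rw [smul_nrm, (hcomm k' hk' k hk).eq, mul_inv_cancel_right, ht]
  have hswap : ∀ k ∈ M, k ∈ Subgroup.zpowers k₀ → k ≠ 1 → k ∉ Subgroup.zpowers k₁ := by
    intro k hk h0 hk1 h1
    haveI : Fact (Nat.card ↥(Subgroup.zpowers k₀)).Prime := by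
      rw [Nat.card_zpowers, hord k₀ hk₀1]; exact ⟨hm⟩
    have e0 : Subgroup.zpowers k = Subgroup.zpowers k₀ :=
      Subgroup.eq_of_le_of_card_ge (Subgroup.zpowers_le.2 h0)
        (by rw [Nat.card_zpowers, Nat.card_zpowers, hord k hk1, hord k₀ hk₀1])
    have e1 : Subgroup.zpowers k = Subgroup.zpowers k₁ :=
      Subgroup.eq_of_le_of_card_ge (Subgroup.zpowers_le.2 h1)
        (by rw [Nat.card_zpowers, Nat.card_zpowers, hord k hk1, hord k₁ hk₁1])
    exact hk₁₀ (e0 ▸ e1 ▸ Subgroup.mem_zpowers k₁)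
  have hk₀₁ : k₀ ∉ Subgroup.zpowers k₁ :=
    hswap k₀ hk₀M (Subgroup.mem_zpowers _) hk₀1
  have hn0 : nrm m k₀ v = v₀ := by
    rw [hv, nrm_mul, nrm_fixed h2 hodd hk0v, hzero k₀ hk₀M v₁ k₁ hk₁M hk₁1 hk1v hk₀₁, mul_one]
  have hn1 : nrm m k₁ v = v₁ := by
    rw [hv, nrm_mul, nrm_fixed h2 hodd hk1v, hzero k₁ hk₁M v₀ k₀ hk₀M hk₀1 hk0v hk₁₀, one_mul]
  have hv1 : v ≠ 1 := by
    intro h
    exact hv₀ (hn0.symm.trans (by rw [h]; exact nrm_fixed h2 hodd (smul_one _)))
  have hle : MulAction.stabilizer A v ≤ MulAction.stabilizer A v₀ := by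
    intro y hy
    rw [MulAction.mem_stabilizer_iff] at hy ⊢
    have key : ∀ k w, k ∈ M → nrm m k v = w → w ≠ 1 →
        y * k * y⁻¹ ∈ Subgroup.zpowers k₀ ∨ y * k * y⁻¹ ∈ Subgroup.zpowers k₁ := by
      intro k w hk hkw hw1
      by_contra! hcon
      have hk' : y * k * y⁻¹ ∈ M := hMnorm.conj_mem k hk y
      have := smul_nrm m y k v
      rw [hkw, hy, hv, nrm_mul, hzero _ hk' v₀ k₀ hk₀M hk₀1 hk0v hcon.1,
        hzero _ hk' v₁ k₁ hk₁M hk₁1 hk1v hcon.2, one_mul, ← smul_one y] at this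
      exact hw1 (MulAction.injective y this)
    have hfix0 : y * k₀ * y⁻¹ ∈ Subgroup.zpowers k₀ := by
      rcases key k₀ v₀ hk₀M hn0 hv₀ with h | h
      · exact h
      rcases key k₁ v₁ hk₁M hn1 hv₁ with h' | h'
      swap
      · exfalso
        refine hk₁₀ ?_
        have e : Subgroup.zpowers (y * k₀ * y⁻¹) = Subgroup.zpowers k₁ :=
          Subgroup.eq_of_le_of_card_ge (Subgroup.zpowers_le.2 h)
            (by rw [Nat.card_zpowers, Nat.card_zpowers, hord k₁ hk₁1,
              hord _ (fun he => hk₀1 (conj_eq_one_iff.1 he))])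
        rw [← e] at h'
        obtain ⟨i, hi⟩ := Subgroup.mem_zpowers_iff.1 h'
        rw [conj_zpow] at hi
        exact Subgroup.mem_zpowers_iff.2 ⟨i, mul_left_cancel (mul_right_cancel hi)⟩
      have h2y : y ^ 2 * k₀ * (y ^ 2)⁻¹ ∈ Subgroup.zpowers k₀ := by
        obtain ⟨i, hi⟩ := Subgroup.mem_zpowers_iff.1 h
        have : y ^ 2 * k₀ * (y ^ 2)⁻¹ = (y * k₁ * y⁻¹) ^ i := by
          rw [conj_zpow, hi, pow_two, mul_inv_rev]; group
        rw [this]; exact zpow_mem h' i
      have hN : y ^ 2 ∈ Subgroup.normalizer ((Subgroup.zpowers k₀ : Subgroup A) : Set A) := by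
        have hmap : (Subgroup.zpowers k₀).map (MulAut.conj (y ^ 2)).toMonoidHom
            = Subgroup.zpowers k₀ := by
          refine Subgroup.eq_of_le_of_card_ge ?_
            (Subgroup.card_map_of_injective (MulEquiv.injective _)).ge
          rw [MonoidHom.map_zpowers]
          exact Subgroup.zpowers_le.2 h2y
        intro x
        constructor
        · intro hx; rw [← hmap]; exact ⟨x, hx, rfl⟩
        · intro hx
          rw [SetLike.mem_coe, ← hmap] at hx
          obtain ⟨x', hx', he⟩ := hx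
          rwa [← mul_left_cancel (mul_right_cancel (he : y ^ 2 * x' * (y ^ 2)⁻¹ = _))]
      obtain ⟨l, hl⟩ := hodd
      have : y = (y ^ 2) ^ (l + 1) := by
        rw [← pow_mul, show 2 * (l + 1) = (2 * l + 1) + 1 by ring, pow_succ, ← hl, hexp, one_mul]
      rw [this]
      exact (pow_mem hN (l + 1) k₀).1 (Subgroup.mem_zpowers _)
    have hk' : y * k₀ * y⁻¹ ∈ M := hMnorm.conj_mem k₀ hk₀M y
    have hk'1 : y * k₀ * y⁻¹ ≠ 1 := fun he => hk₀1 (conj_eq_one_iff.1 he)
    have hfix : (y * k₀ * y⁻¹) • v₀ = v₀ := by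
      obtain ⟨i, hi⟩ := Subgroup.mem_zpowers_iff.1 hfix0
      rw [← hi]
      exact Subgroup.zpow_mem (MulAction.stabilizer A v₀) hk0v i
    have := smul_nrm m y k₀ v
    rwa [hn0, hy, hv, nrm_mul, nrm_fixed h2 hodd hfix,
      hzero _ hk' v₁ k₁ hk₁M hk₁1 hk1v (hswap _ hk' hfix0 hk'1), mul_one] at this
  have heq := Subgroup.eq_of_le_of_card_ge hle (hconst v₀ v hv₀ hv1).le
  have hk0' : k₀ ∈ MulAction.stabilizer A v := heq ▸ hk0v
  rw [MulAction.mem_stabilizer_iff, hv, smul_mul', hk0v] at hk0'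
  exact hv₁ (hMz k₀ hk₀M k₁ hk₁M hk₀1 hk₁₀ v₁ (mul_left_cancel hk0') hk1v)

end Cfsg.Agent.H76.FiveOrbits
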