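import Cfsg.Agent.H76.FiveOrbits.Local
import Cfsg.Agent.H65.Invol
import Cfsg.Agent.Fusion.Basic

/-!
All element orders prime: the Sylow 2-subgroup has Mersenne order plus one.
-/

set_option autoImplicit false
set_option linter.style.haveILetI false

namespace Cfsg.Agent.H76.FiveOrbits

open Subgroup

variable {G : Type*} [Group G]

/-- A 2-element centralising a Sylow 2-subgroup lies in it. -/
theorem mem_sylow_of_centralize [Finite G] {p : ℕ} [Fact p.Prime] (P : Sylow p G) {x : G}
    (hx : IsPGroup p (zpowers x)) (hc : x ∈ centralizer ((P : Subgroup G) : Set G)) :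
    x ∈ (P : Subgroup G) := by
  have hle : zpowers x ≤ normalizer ((P : Subgroup G) : Set G) :=
    (zpowers_le.2 hc).trans (centralizer_le_normalizer _)
  have := P.3 (P.isPGroup'.to_sup_of_normal_left' hx hle) le_sup_left
  exact this ▸ mem_sup_right (mem_zpowers x)

theorem card_sylow_sub_one_prime [Finite G] [IsSimpleGroup G] (hna : ¬ IsMulCommutative G)
    (hord : ∀ g : G, orderOf g = 1 ∨ (orderOf g).Prime)
    (hconj : ∀ s t : G, orderOf s = 2 → orderOf t = 2 → ∃ σ : MulAut G, σ s = t)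
    (heven : 2 ∣ Nat.card G) (T : Sylow 2 G) :
    (Nat.card ↥(T : Subgroup G) - 1).Prime := by
  classical
  haveI : Fact (Nat.Prime 2) := ⟨Nat.prime_two⟩
  have hno : ∀ (x t : G), orderOf t = 2 → Odd (orderOf x) → Commute x t → x = 1 := by
    intro x t ht hx hc
    by_contra h1
    have hco : (orderOf x).Coprime (orderOf t) := ht ▸ Nat.coprime_two_right.2 hx
    have h := hc.orderOf_mul_eq_mul_orderOf_of_coprime hco
    rw [ht] at h
    have h3 : orderOf x ≠ 1 := fun e => h1 (orderOf_eq_one_iff.1 e)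
    rcases hord (x * t) with h' | h'
    · rw [h] at h'; omega
    · rw [h] at h'; exact Nat.not_prime_mul h3 (by norm_num) h'
  obtain ⟨t₀, ht₀T, ht₀⟩ : ∃ t ∈ (T : Subgroup G), orderOf t = 2 := by
    obtain ⟨⟨t, htT⟩, ht⟩ :=
      exists_prime_orderOf_dvd_card' (G := ↥(T : Subgroup G)) 2 (T.dvd_card_of_dvd_card heven)
    exact ⟨t, htT, by rwa [Subgroup.orderOf_mk] at ht⟩
  have hCT : centralizer ((T : Subgroup G) : Set G) ≤ (T : Subgroup G) := by
    intro x hx
    rcases hord x with h | h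
    · rw [orderOf_eq_one_iff.1 h]; exact one_mem _
    rcases h.eq_two_or_odd' with h2 | h2
    · refine mem_sylow_of_centralize T (IsPGroup.of_card (n := 1) ?_) hx
      rw [Nat.card_zpowers, h2, pow_one]
    · exact absurd (hno x t₀ ht₀ h2 ((mem_centralizer_iff.1 hx t₀ ht₀T).symm))
        fun e => h.one_lt.ne (by rw [e, orderOf_one])
  let L : Loc G := ⟨3, Nat.prime_three, by norm_num,
    fun g => (hord g).elim Or.inl fun h => Or.inr (Or.inl h), hconj, T, hCT, heven, hna⟩
  obtain ⟨A, hAN, hinf, hsup, hodd⟩ := L.exists_compl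
  let K : L.Compl := ⟨A, hAN, hinf, hsup, hodd⟩
  obtain ⟨p, hp, -, a, haA, hao, -, hfree, hcase⟩ := K.structure_A
  have hAp : Nat.card A = p := by
    rcases hcase with h | ⟨-, -, -, t, ht, ht1, b, -, hbo, hbt⟩
    · exact h
    exfalso
    have := hno b t (L.invol ht ht1) (by rw [hbo]; exact Nat.prime_three.odd_of_ne_two (by norm_num)) hbt
    rw [this, orderOf_one] at hbo
    exact absurd hbo (by norm_num)
  have hone : ∀ s t : G, orderOf s = 2 → orderOf t = 2 → IsConj s t := by
    intro s t hs ht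
    by_contra hne
    have hcent : ∀ g : G, Commute s (g * t * g⁻¹) := by
      intro g
      have hg : orderOf (g * t * g⁻¹) = 2 := by rw [H65.orderOf_conj', ht]
      have hne' : ¬ IsConj s (g * t * g⁻¹) := fun h =>
        hne (h.trans (isConj_iff.2 ⟨g⁻¹, by group⟩))
      obtain ⟨v, hv, hsv, htv⟩ := H65.exists_invol_commute_of_not_isConj hs hg hne'
      -- both lie in the centraliser of `v`, a 2-group of exponent 2
      have h2 : ∀ x : G, Commute x v → x * x = 1 := by
        intro x hx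
        rcases hord x with h | h
        · rw [orderOf_eq_one_iff.1 h, one_mul]
        · rcases h.eq_two_or_odd' with h2 | h2
          · rw [← pow_two, ← h2, pow_orderOf_eq_one]
          · rw [hno x v hv h2 hx, one_mul]
      have hsv' : Commute s v := hsv.symm
      have htv' : Commute (g * t * g⁻¹) v := htv.symm
      have h3 := h2 _ (hsv'.mul_left htv')
      have hsi : s⁻¹ = s := inv_eq_of_mul_eq_one_right (h2 _ hsv')
      have hti : (g * t * g⁻¹)⁻¹ = g * t * g⁻¹ := inv_eq_of_mul_eq_one_right (h2 _ htv')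
      show s * (g * t * g⁻¹) = g * t * g⁻¹ * s
      conv_rhs => rw [← hti, ← hsi, ← mul_inv_rev]
      exact (inv_eq_of_mul_eq_one_right h3).symm
    have hcl : (Subgroup.normalClosure ({t} : Set G)) ≤ centralizer ({s} : Set G) := by
      show Subgroup.closure _ ≤ _
      rw [Subgroup.closure_le]
      intro x hx
      obtain ⟨t', ht', hx'⟩ := Group.mem_conjugatesOfSet_iff.1 hx
      rw [Set.mem_singleton_iff] at ht'
      subst ht'
      obtain ⟨g, rfl⟩ := isConj_iff.1 hx'
      exact mem_centralizer_singleton_iff.2 (hcent g).symm.eq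
    have htop := (IsSimpleGroup.eq_bot_or_eq_top_of_normal _
      (Subgroup.normalClosure_normal (s := ({t} : Set G)))).resolve_left fun h => by
        have : t ∈ (⊥ : Subgroup G) := h ▸ Subgroup.subset_normalClosure rfl
        rw [mem_bot.1 this, orderOf_one] at ht
        exact absurd ht (by norm_num)
    have hsc : s ∈ Subgroup.center G := Subgroup.mem_center_iff.2 fun x =>
      mem_centralizer_singleton_iff.1 (hcl (htop ▸ mem_top x))
    rcases IsSimpleGroup.eq_bot_or_eq_top_of_normal (Subgroup.center G) inferInstance with h | h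
    · rw [h, mem_bot] at hsc
      rw [hsc, orderOf_one] at hs
      exact absurd hs (by norm_num)
    · exact hna ⟨⟨fun x y => (Subgroup.mem_center_iff.1 (h ▸ mem_top x) y).symm⟩⟩
  -- `A` is regular on the involutions of `T`
  have hTcomm : IsMulCommutative ↥(T : Subgroup G) :=
    ⟨⟨fun x y => Subtype.ext (L.comm x.2 y.2).eq⟩⟩
  have hsurj : Function.Surjective fun x : A =>
      (⟨⟨(x : G) * t₀ * (x : G)⁻¹, (mem_normalizer_iff.1 (hAN x.2) t₀).1 ht₀T⟩, fun h => by
        have h' := congrArg Subtype.val h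
        rw [show ((1 : ↥(T : Subgroup G)) : G) = 1 from rfl, conj_eq_one_iff] at h'
        rw [h', orderOf_one] at ht₀
        exact absurd ht₀ (by norm_num)⟩ : {v : ↥(T : Subgroup G) // v ≠ 1}) := by
    rintro ⟨⟨v, hv⟩, hv1⟩
    obtain ⟨g, hg⟩ := isConj_iff.1 (hone t₀ v ht₀ (L.invol hv fun h => hv1 (Subtype.ext h)))
    have hTC : (T : Subgroup G) ≤ centralizer ((T : Subgroup G) : Set G) :=
      le_centralizer_iff_isMulCommutative.2 hTcomm
    obtain ⟨n, hn, hnv⟩ := Fusion.burnside_fusion_centralizer T (hTC ht₀T)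
      (g := g) (hTC (by rw [hg]; exact hv))
    replace hn : n ∈ (L.T : Subgroup G) ⊔ A := by rw [hsup]; exact hn
    rw [← SetLike.mem_coe, coe_mul_of_right_le_normalizer_left _ _ hAN] at hn
    obtain ⟨x, hx, y, hy, rfl⟩ := hn
    refine ⟨⟨y, hy⟩, Subtype.ext (Subtype.ext ?_)⟩
    have hyt : y * t₀ * y⁻¹ ∈ (T : Subgroup G) := (mem_normalizer_iff.1 (hAN hy) t₀).1 ht₀T
    show y * t₀ * y⁻¹ = v
    rw [← hg, ← hnv]
    show y * t₀ * y⁻¹ = x * y * t₀ * (x * y)⁻¹
    rw [mul_inv_rev, show x * y * t₀ * (y⁻¹ * x⁻¹) = x * (y * t₀ * y⁻¹) * x⁻¹ by group,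
      (L.comm hx hyt).eq, mul_inv_cancel_right]
  have hcardv : Nat.card {v : ↥(T : Subgroup G) // v ≠ 1} = Nat.card ↥(T : Subgroup G) - 1 := by
    haveI := Fintype.ofFinite ↥(T : Subgroup G)
    rw [Nat.card_eq_fintype_card, Fintype.card_subtype_compl, Fintype.card_subtype_eq,
      Nat.card_eq_fintype_card]
  have hle : Nat.card ↥(T : Subgroup G) - 1 ≤ p := by
    rw [← hcardv, ← hAp]
    exact Nat.card_le_card_of_surjective _ hsurj
  have hge : p ≤ Nat.card ↥(T : Subgroup G) - 1 := by
    rw [← hcardv, ← hao, ← Nat.card_zpowers]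
    have hza : zpowers a ≤ A := zpowers_le.2 haA
    refine Nat.card_le_card_of_injective (fun x : zpowers a =>
      (⟨⟨(x : G) * t₀ * (x : G)⁻¹, (mem_normalizer_iff.1 (hAN (hza x.2)) t₀).1 ht₀T⟩, fun h => by
        have h' := congrArg Subtype.val h
        rw [show ((1 : ↥(T : Subgroup G)) : G) = 1 from rfl, conj_eq_one_iff] at h'
        rw [h', orderOf_one] at ht₀
        exact absurd ht₀ (by norm_num)⟩ : {v : ↥(T : Subgroup G) // v ≠ 1})) ?_
    intro x y hxy
    have h : (x : G) * t₀ * (x : G)⁻¹ = (y : G) * t₀ * (y : G)⁻¹ :=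
      congrArg (fun w : {v : ↥(T : Subgroup G) // v ≠ 1} => ((w : ↥(T : Subgroup G)) : G)) hxy
    by_contra hne
    have hcom : Commute ((y : G)⁻¹ * x) t₀ := by
      show _ = _
      calc (y : G)⁻¹ * x * t₀ = (y : G)⁻¹ * ((x : G) * t₀ * (x : G)⁻¹) * x := by group
        _ = (y : G)⁻¹ * ((y : G) * t₀ * (y : G)⁻¹) * x := by rw [h]
        _ = t₀ * ((y : G)⁻¹ * x) := by group
    have := hfree _ (mul_mem (inv_mem y.2) x.2)
      (fun e => hne (Subtype.ext (inv_mul_eq_one.1 e).symm)) t₀ ht₀T hcom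
    rw [this, orderOf_one] at ht₀
    exact absurd ht₀ (by norm_num)
  rw [le_antisymm hle hge]
  exact hp

end Cfsg.Agent.H76.FiveOrbits
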