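import Cfsg.Agent.H76.FiveOrbits.CaseTwoBasic
import Cfsg.Agent.Coprime.Generation

/-!
No simple group has element orders `1, 2, r, 2r, s` classifying its automorphism orbits.
-/

set_option autoImplicit false
set_option linter.style.haveILetI false
set_option linter.unusedSectionVars false

namespace Cfsg.Agent.H76.FiveOrbits

open Subgroup
open scoped Pointwise

variable {G : Type*} [Group G]

namespace Loc.Compl

variable [Finite G] [IsSimpleGroup G] {L : Loc G} (K : L.Compl)

include K

theorem le_card_sub_one {a : G} (ha : a ∈ K.A)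
    (hfree : ∀ x ∈ zpowers a, x ≠ 1 → ∀ t ∈ (L.T : Subgroup G), Commute x t → t = 1) :
    orderOf a ≤ Nat.card ↥(L.T : Subgroup G) - 1 := by
  classical
  obtain ⟨⟨t, ht⟩, ht1⟩ := Subgroup.ne_bot_iff_exists_ne_one.1 L.T_ne_bot
  have ht1' : t ≠ 1 := fun h => ht1 (Subtype.ext h)
  haveI := Fintype.ofFinite ↥(L.T : Subgroup G)
  have hcard : Nat.card {v : ↥(L.T : Subgroup G) // v ≠ 1} = Nat.card ↥(L.T : Subgroup G) - 1 := by
    rw [Nat.card_eq_fintype_card, Fintype.card_subtype_compl, Fintype.card_subtype_eq,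
      Nat.card_eq_fintype_card]
  rw [← hcard, ← Nat.card_zpowers]
  have hza : zpowers a ≤ K.A := zpowers_le.2 ha
  refine Nat.card_le_card_of_injective (fun x : zpowers a =>
    (⟨⟨(x : G) * t * (x : G)⁻¹, (mem_normalizer_iff.1 (K.hAN (hza x.2)) t).1 ht⟩, fun h => by
      have h' := congrArg Subtype.val h
      rw [show ((1 : ↥(L.T : Subgroup G)) : G) = 1 from rfl, conj_eq_one_iff] at h'
      exact ht1' h'⟩ : {v : ↥(L.T : Subgroup G) // v ≠ 1})) ?_
  intro x y hxy
  have h : (x : G) * t * (x : G)⁻¹ = (y : G) * t * (y : G)⁻¹ :=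
    congrArg (fun w : {v : ↥(L.T : Subgroup G) // v ≠ 1} => ((w : ↥(L.T : Subgroup G)) : G)) hxy
  by_contra hne
  refine ht1' (hfree _ (mul_mem (inv_mem y.2) x.2)
    (fun e => hne (Subtype.ext (inv_mul_eq_one.1 e).symm)) t ht ?_)
  show _ = _
  calc (y : G)⁻¹ * x * t = (y : G)⁻¹ * ((x : G) * t * (x : G)⁻¹) * x := by group
    _ = (y : G)⁻¹ * ((y : G) * t * (y : G)⁻¹) * x := by rw [h]
    _ = t * ((y : G)⁻¹ * x) := by group

end Loc.Compl

/-- Odd order elements lie in a normal complement of a Sylow 2-subgroup. -/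
theorem mem_of_complement {C : Type*} [Group C] [Finite C] (S : Sylow 2 C) {O : Subgroup C}
    [O.Normal] (hO : IsComplement' O (S : Subgroup C)) {x : C} (hx : Odd (orderOf x)) : x ∈ O := by
  haveI : Fact (Nat.Prime 2) := ⟨Nat.prime_two⟩
  rw [← QuotientGroup.eq_one_iff, ← orderOf_eq_one_iff]
  refine Nat.eq_one_of_dvd_coprimes (?_ : (Nat.card (C ⧸ O)).Coprime (orderOf x))
    (orderOf_dvd_natCard _) (orderOf_map_dvd (QuotientGroup.mk' O) x)
  rw [show Nat.card (C ⧸ O) = O.index from rfl, hO.symm.index_eq_card, S.card_eq_multiplicity]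
  exact (Nat.coprime_two_left.2 hx).pow_left _

namespace Two

variable [Finite G] [IsSimpleGroup G] (H : Two G) (K : H.toLoc.Compl)

include H K

local notation "T₀" => ((H.toLoc.T : Sylow 2 G) : Subgroup G)

theorem card_T_dvd : Nat.card ↥T₀ ∣ Nat.card G := card_subgroup_dvd_card _

theorem sub_one_le_num_two : Nat.card ↥T₀ - 1 ≤ num G 2 := by
  classical
  haveI := Fintype.ofFinite ↥T₀
  have hcard : Nat.card {v : ↥T₀ // v ≠ 1} = Nat.card ↥T₀ - 1 := by
    rw [Nat.card_eq_fintype_card, Fintype.card_subtype_compl, Fintype.card_subtype_eq,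
      Nat.card_eq_fintype_card]
  rw [← hcard]
  refine Nat.card_le_card_of_injective (fun v : {v : ↥T₀ // v ≠ 1} =>
    (⟨(v.1 : G), H.toLoc.invol v.1.2 fun h => v.2 (Subtype.ext h)⟩ : {g : G // orderOf g = 2})) ?_
  intro v w h
  exact Subtype.ext (Subtype.ext
    (congrArg (fun g : {g : G // orderOf g = 2} => (g : G)) h))

/-- The relations between the element counts. -/
theorem num_rel {t x : G} (ht : orderOf t = 2) (hx : orderOf x = H.r) :
    num G (2 * H.r) = num G 2 * numC t H.r ∧ num G (2 * H.r) = num G H.r * numC x 2 := by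
  constructor
  · refine num_two_mul_r_eq_left H.hr H.hr2 fun u hu => ?_
    obtain ⟨σ, rfl⟩ := H.hconj t u (ht.trans hu.symm)
    exact numC_aut σ t H.r
  · refine num_two_mul_r_eq_right H.hr H.hr2 fun u hu => ?_
    obtain ⟨σ, rfl⟩ := H.hconj x u (hx.trans hu.symm)
    exact numC_aut σ x 2

/-- The index of a subgroup of `T` with cyclic quotient is at most two. -/
theorem card_le_two_mul {B : Subgroup G} (hB : B ≤ T₀) {a : G} (ha : a ∈ T₀)
    (hBa : B ⊔ zpowers a = T₀) : Nat.card ↥T₀ ≤ 2 * Nat.card B := by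
  have hn : zpowers a ≤ normalizer (B : Set G) := by
    refine zpowers_le.2 (centralizer_le_normalizer _ (mem_centralizer_iff.2 fun b hb => ?_))
    exact (H.toLoc.comm (hB hb) ha).eq
  have hz : Nat.card (zpowers a) ≤ 2 := by
    rw [Nat.card_zpowers]
    rcases eq_or_ne a 1 with rfl | h1
    · rw [orderOf_one]; norm_num
    · exact (H.toLoc.invol ha h1).le
  have h := H31.FF.card_sup_mul_card_inf hn
  rw [hBa] at h
  calc Nat.card ↥T₀ ≤ Nat.card ↥T₀ * Nat.card ↥(B ⊓ zpowers a) :=
        Nat.le_mul_of_pos_right _ Nat.card_pos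
    _ = Nat.card B * Nat.card (zpowers a) := h
    _ ≤ 2 * Nat.card B := by rw [mul_comm 2]; exact Nat.mul_le_mul_left _ hz

/-- If some element of the odd core of an involution centraliser is non-trivial, some element of
order `r` centralises a subgroup of index at most two of `T`. -/
theorem exists_big {O : Subgroup G} (hO : O ≠ ⊥) (hOodd : Odd (Nat.card O)) {t : G}
    (ht : orderOf t = 2) (hOt : O ≤ centralizer ({t} : Set G))
    (hTO : T₀ ≤ normalizer (O : Set G)) :
    ∃ x : G, orderOf x = H.r ∧ ∃ B : Subgroup G, B ≤ T₀ ∧ Nat.card ↥T₀ ≤ 2 * Nat.card B ∧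
      B ≤ centralizer ({x} : Set G) := by
  haveI : IsMulCommutative ↥T₀ := ⟨⟨fun a b => Subtype.ext (H.toLoc.comm a.2 b.2).eq⟩⟩
  haveI : Fact (Nat.Prime 2) := ⟨Nat.prime_two⟩
  have hcop : (Nat.card ↥T₀).Coprime (Nat.card O) := by
    obtain ⟨k, hk⟩ := IsPGroup.iff_card.1 H.toLoc.T.isPGroup'
    rw [hk]; exact (Nat.coprime_two_left.2 hOodd).pow_left k
  by_contra hcon
  refine hO (le_bot_iff.1 (Coprime.le_of_centralizer_cyclic_quotient_le hTO hcop
    fun B hB ⟨a, ha, hBa⟩ x hx => ?_))
  by_contra h1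
  rw [mem_bot] at h1
  refine hcon ⟨x, ?_, B, hB, H.card_le_two_mul K hB ha hBa, fun b hb => ?_⟩
  · rcases H.orderOf_of_odd (hOodd.of_dvd_nat (Subgroup.orderOf_dvd_natCard O hx.1)) h1 with e | e
    · exact e
    · exact (H.not_commute_s e (Or.inl ht) (mem_centralizer_singleton_iff.1 (hOt hx.1)).symm).elim
  · exact mem_centralizer_singleton_iff.2 (mem_centralizer_iff.1 hx.2 b hb)

/-- The case of a fixed-point-free complement. -/
theorem false_of_free {p : ℕ} (hp : p.Prime) (hp2 : p ≠ 2) {a : G} (haA : a ∈ K.A)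
    (hao : orderOf a = p)
    (hfree : ∀ x ∈ zpowers a, x ≠ 1 → ∀ t ∈ T₀, Commute x t → t = 1)
    (hA : Nat.card K.A = p) : False := by
  classical
  haveI : Fact (Nat.Prime 2) := ⟨Nat.prime_two⟩
  have hAa : K.A = zpowers a :=
    (Subgroup.eq_of_le_of_card_ge (zpowers_le.2 haA) (by rw [hA, Nat.card_zpowers, hao])).symm
  have hq4 : 4 ≤ Nat.card ↥T₀ := by
    have := K.le_card_sub_one haA hfree
    rw [hao] at this
    have := hp.two_le
    omega
  obtain ⟨⟨t, ht⟩, ht1⟩ := Subgroup.ne_bot_iff_exists_ne_one.1 H.toLoc.T_ne_bot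
  have ht1' : t ≠ 1 := fun h => ht1 (Subtype.ext h)
  have hto := H.toLoc.invol ht ht1'
  have hstab : Loc.Compl.stab K.A t = ⊥ := by
    rw [eq_bot_iff]
    rintro x ⟨hxA, hxt⟩
    by_contra h1
    exact ht1' (hfree x (hAa ▸ hxA) (fun h => h1 (mem_bot.2 h)) t ht
      (mem_centralizer_singleton_iff.1 hxt))
  set C := centralizer ({t} : Set G) with hC
  have hTC : T₀ ≤ C := H.toLoc.T_le_centralizer ht
  let S := H.toLoc.T.subtype hTC
  have hNC : normalizer (T₀ : Set G) ⊓ C = T₀ := by
    have := K.sup_inf_centralizer le_rfl ht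
    rwa [K.hsup, hstab, sup_bot_eq] at this
  have hburn : normalizer ((S : Subgroup C) : Set C) ≤ centralizer ((S : Subgroup C) : Set C) := by
    show normalizer (((T₀).subgroupOf C : Subgroup C) : Set C) ≤ _
    rw [← Subgroup.subgroupOf_normalizer_eq hTC]
    rintro ⟨n, hnC⟩ hn
    have hnT : n ∈ T₀ := by rw [← hNC]; exact ⟨hn, hnC⟩
    exact mem_centralizer_iff.2 fun s hs => Subtype.ext (H.toLoc.comm hs hnT).eq
  obtain ⟨O, hOn, hcompl, hOodd⟩ : ∃ O : Subgroup C, O.Normal ∧
      IsComplement' O (S : Subgroup C) ∧ Odd (Nat.card O) := by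
    refine ⟨(MonoidHom.transferSylow S hburn).ker, inferInstance,
      MonoidHom.ker_transferSylow_isComplement' S hburn, ?_⟩
    rw [← Nat.not_even_iff_odd, even_iff_two_dvd]
    exact MonoidHom.not_dvd_card_ker_transferSylow S hburn
  haveI := hOn
  have hCcard : Nat.card C = Nat.card O * Nat.card ↥T₀ := by
    rw [← hcompl.card_mul, Nat.card_congr (Subgroup.subgroupOfEquivOfLe hTC).toEquiv.symm]
    rfl
  have hρ : numC t H.r = Nat.card O - 1 := by
    haveI := Fintype.ofFinite ↥O
    have hO1 : Nat.card {x : ↥O // x ≠ 1} = Nat.card O - 1 := by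
      rw [Nat.card_eq_fintype_card, Fintype.card_subtype_compl, Fintype.card_subtype_eq,
        Nat.card_eq_fintype_card]
    rw [← hO1]
    refine Nat.card_congr
      { toFun := fun g => ⟨⟨⟨g.1, mem_centralizer_singleton_iff.2 g.2.2.symm.eq⟩,
          mem_of_complement S hcompl (by
            rw [Subgroup.orderOf_mk, g.2.1]; exact H.hr.odd_of_ne_two H.hr2)⟩, fun h => by
          have h' : g.1 = 1 := congrArg (fun u : ↥O => ((u : ↥C) : G)) h
          have := g.2.1
          rw [h', orderOf_one] at this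
          exact H.hr.one_lt.ne this⟩
        invFun := fun x => ⟨((x.1 : ↥C) : G), ?_,
          (mem_centralizer_singleton_iff.1 (x.1 : ↥C).2).symm⟩
        left_inv := fun g => rfl
        right_inv := fun x => rfl }
    have hodd : Odd (orderOf ((x.1 : ↥C) : G)) := by
      rw [Subgroup.orderOf_coe, Subgroup.orderOf_coe]
      exact hOodd.of_dvd_nat (orderOf_dvd_natCard _)
    rcases H.orderOf_of_odd hodd (fun h => x.2 (Subtype.ext (Subtype.ext h))) with e | e
    · exact e
    · exact (H.not_commute_s e (Or.inl hto)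
        (mem_centralizer_singleton_iff.1 (x.1 : ↥C).2).symm).elim
  obtain ⟨x₀, hx₀⟩ := H.exists_r
  obtain ⟨hl, hr'⟩ := H.num_rel K hto hx₀
  obtain ⟨g, hg⟩ := H.hmix
  have hN2r := num_pos hg
  have hkey := num_two_mul K ht ht1'
  rw [← hC, hCcard, hA, hstab, Subgroup.card_bot, mul_one] at hkey
  -- the involutions and the elements of order `2r`
  have hsum : (num G 2 + num G (2 * H.r)) * (Nat.card ↥T₀ * p) =
      Nat.card G * (Nat.card ↥T₀ - 1) := by
    have h : num G 2 + num G (2 * H.r) = num G 2 * Nat.card O := by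
      rw [hl, hρ]
      have : 0 < Nat.card O := Nat.card_pos
      calc num G 2 + num G 2 * (Nat.card O - 1) = num G 2 * (1 + (Nat.card O - 1)) := by ring
        _ = num G 2 * Nat.card O := by rw [show 1 + (Nat.card O - 1) = Nat.card O by omega]
    rw [h, ← hkey]; ring
  have hp3 : 3 ≤ p := by have := hp.two_le; omega
  set q := Nat.card ↥T₀ with hq
  have hG := H.card_eq
  have hS := H.two_mul_num_s_le
  have h2 := H.sub_one_le_num_two K
  rw [← hq] at h2
  by_cases hq8 : q = 4
  · have hnr : num G H.r ≤ num G (2 * H.r) := by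
      rw [hr']
      refine Nat.le_mul_of_pos_right _ (Nat.pos_of_ne_zero fun h => ?_)
      rw [h, mul_zero] at hr'; omega
    have h4 : (num G 2 + num G (2 * H.r)) * 12 ≤ Nat.card G * 3 := by
      have h12 : 12 ≤ q * p := by rw [hq8]; omega
      calc _ ≤ (num G 2 + num G (2 * H.r)) * (q * p) := Nat.mul_le_mul_left _ h12
        _ = _ := by rw [hsum, hq8]
    omega
  · have hq8' : 8 ≤ q := by
      obtain ⟨k, hk⟩ := IsPGroup.iff_card.1 H.toLoc.T.isPGroup'
      rw [← hq] at hk
      rcases lt_or_ge k 3 with hk3 | hk3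
      · interval_cases k <;> omega
      · rw [hk]; exact le_trans (by norm_num) (Nat.pow_le_pow_right two_pos hk3)
    have hOne : O.map C.subtype ≠ ⊥ := by
      rw [Ne, Subgroup.map_eq_bot_iff_of_injective _ C.subtype_injective]
      intro h
      rw [h, Subgroup.card_bot] at hρ
      rw [hρ, Nat.sub_self, mul_zero] at hl
      omega
    have hTn : T₀ ≤ normalizer ((O.map C.subtype : Subgroup G) : Set G) := by
      refine hTC.trans fun c hc => mem_normalizer_iff.2 fun x => ?_
      have key : ∀ c ∈ C, ∀ x ∈ O.map C.subtype, c * x * c⁻¹ ∈ O.map C.subtype := by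
        rintro c hc _ ⟨y, hy, rfl⟩
        exact ⟨⟨c, hc⟩ * y * ⟨c, hc⟩⁻¹,
          hOn.conj_mem y hy _, rfl⟩
      exact ⟨key c hc x, fun h => by simpa [mul_assoc] using key c⁻¹ (inv_mem hc) _ h⟩
    obtain ⟨x, hx, B, hB, hBcard, hBx⟩ := H.exists_big K hOne
      (by rwa [Subgroup.card_map_of_injective C.subtype_injective]) hto (map_subtype_le _) hTn
    have hi : 3 ≤ numC x 2 := by
      haveI := Fintype.ofFinite ↥B
      have hle : Nat.card {v : ↥B // v ≠ 1} ≤ numC x 2 := by
        refine Nat.card_le_card_of_injective (fun v : {v : ↥B // v ≠ 1} =>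
          (⟨(v.1 : G), H.toLoc.invol (hB v.1.2) fun h => v.2 (Subtype.ext h),
            (mem_centralizer_singleton_iff.1 (hBx v.1.2)).symm⟩ :
            {g : G // orderOf g = 2 ∧ Commute x g})) fun v w h => ?_
        exact Subtype.ext (Subtype.ext
          (congrArg (fun g : {g : G // orderOf g = 2 ∧ Commute x g} => (g : G)) h))
      rw [Nat.card_eq_fintype_card, Fintype.card_subtype_compl, Fintype.card_subtype_eq,
        ← Nat.card_eq_fintype_card] at hle
      omega
    obtain ⟨-, hr''⟩ := H.num_rel K hto hx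
    have h3 : num G H.r * 3 ≤ num G (2 * H.r) := by
      rw [hr'']; exact Nat.mul_le_mul_left _ hi
    have hs' : (num G 2 + num G (2 * H.r)) * 3 ≤ Nat.card G := by
      refine Nat.le_of_mul_le_mul_right ?_ (show 0 < q by omega)
      calc (num G 2 + num G (2 * H.r)) * 3 * q = (num G 2 + num G (2 * H.r)) * (q * 3) := by ring
        _ ≤ (num G 2 + num G (2 * H.r)) * (q * p) :=
            Nat.mul_le_mul_left _ (Nat.mul_le_mul_left _ hp3)
        _ = Nat.card G * (q - 1) := hsum
        _ ≤ Nat.card G * q := Nat.mul_le_mul_left _ (Nat.sub_le _ _)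
    omega

end Two

end Cfsg.Agent.H76.FiveOrbits
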