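import Cfsg.Agent.H76.FiveOrbits.Count
import Cfsg.Agent.H76.FiveOrbits.CaseOne
import Cfsg.Agent.S0143
import Cfsg.Agent.S0144
import Cfsg.Agent.Cores.Constrained
import Cfsg.Agent.Cores.PSolvable
import Cfsg.Agent.Components.PComponent

/-!
Element orders `1, 2, r, 2r, s`: first consequences.
-/

set_option autoImplicit false
set_option linter.style.haveILetI false
set_option linter.unusedSectionVars false

namespace Cfsg.Agent.H76.FiveOrbits

open Subgroup
open scoped Pointwise

variable {G : Type*} [Group G]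

/-- Exactly five element orders, one of them twice an odd prime, and orders classify the
automorphism orbits. -/
structure Two (G : Type*) [Group G] where
  r : ℕ
  s : ℕ
  hr : r.Prime
  hs : s.Prime
  hr2 : r ≠ 2
  hs2 : s ≠ 2
  hrs : r ≠ s
  hord : ∀ g : G, orderOf g = 1 ∨ orderOf g = 2 ∨ orderOf g = r ∨ orderOf g = 2 * r ∨ orderOf g = s
  hconj : ∀ x y : G, orderOf x = orderOf y → ∃ σ : MulAut G, σ x = y
  hmix : ∃ g : G, orderOf g = 2 * r
  hsx : ∃ g : G, orderOf g = s
  hna : ¬ IsMulCommutative G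

theorem centralizer_map_aut (σ : MulAut G) (x : G) :
    (centralizer ({x} : Set G)).map σ.toMonoidHom = centralizer ({σ x} : Set G) := by
  ext y
  simp only [Subgroup.mem_map, MulEquiv.coe_toMonoidHom, mem_centralizer_singleton_iff]
  constructor
  · rintro ⟨z, hz, rfl⟩
    rw [← map_mul, hz, map_mul]
  · intro hy
    refine ⟨σ.symm y, σ.injective ?_, by simp⟩
    rw [map_mul, map_mul, MulEquiv.apply_symm_apply, hy]

theorem eq_prime_pow_mul {n p q : ℕ} (hn : n ≠ 0) (hp : p.Prime)
    (h : ∀ d, d.Prime → d ∣ n → d = p ∨ d = q) : ∃ a b, n = p ^ a * q ^ b := by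
  refine ⟨n.factorization p, _, (Nat.ordProj_mul_ordCompl_eq_self n p).symm.trans
    (congrArg (_ * ·) (Nat.eq_prime_pow_of_unique_prime_dvd
      (Nat.ordCompl_pos p hn).ne' fun {d} hd hdv => ?_))⟩
  rcases h d hd (hdv.trans (Nat.ordCompl_dvd n p)) with rfl | rfl
  · exact absurd hdv (Nat.not_dvd_ordCompl hp hn)
  · rfl

namespace Two

variable [Finite G] [IsSimpleGroup G] (H : Two G)

include H

theorem exists_two : ∃ t : G, orderOf t = 2 := by
  obtain ⟨g, hg⟩ := H.hmix
  exact ⟨((pairEquiv H.hr H.hr2) ⟨g, hg⟩).1.1, ((pairEquiv H.hr H.hr2) ⟨g, hg⟩).1.2⟩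

theorem exists_r : ∃ x : G, orderOf x = H.r := by
  obtain ⟨g, hg⟩ := H.hmix
  exact ⟨((pairEquiv H.hr H.hr2) ⟨g, hg⟩).2.1, ((pairEquiv H.hr H.hr2) ⟨g, hg⟩).2.2.1⟩

theorem prime_cases {d : ℕ} (hd : d.Prime) (h : d ∣ Nat.card G) : d = 2 ∨ d = H.r ∨ d = H.s := by
  haveI := Fact.mk hd
  obtain ⟨x, hx⟩ := exists_prime_orderOf_dvd_card' (G := G) d h
  rcases H.hord x with e | e | e | e | e
  · exact absurd (hx ▸ e) hd.ne_one
  · exact Or.inl (hx ▸ e)
  · exact Or.inr (Or.inl (hx ▸ e))
  · exact absurd ((hx.symm.trans e) ▸ hd) (Nat.not_prime_mul (show (2:ℕ) ≠ 1 by norm_num) H.hr.ne_one)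
  · exact Or.inr (Or.inr (hx ▸ e))

/-- No element of order `s` commutes with an element of order `2` or `r`. -/
theorem not_commute_s {x y : G} (hy : orderOf y = H.s) (hx : orderOf x = 2 ∨ orderOf x = H.r)
    (h : Commute x y) : False := by
  have hco : (orderOf x).Coprime (orderOf y) := by
    rcases hx with e | e <;> rw [e, hy]
    · exact (Nat.coprime_primes Nat.prime_two H.hs).2 H.hs2.symm
    · exact (Nat.coprime_primes H.hr H.hs).2 H.hrs
  have ho := h.orderOf_mul_eq_mul_orderOf_of_coprime hco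
  rw [hy] at ho
  have hs1 := H.hs.two_le
  have hx1 : 2 ≤ orderOf x := by rcases hx with e | e <;> rw [e]; exact H.hr.two_le
  rcases H.hord (x * y) with e | e | e | e | e <;> rw [ho] at e
  · nlinarith
  · nlinarith
  · exact Nat.not_prime_mul (by omega) H.hs.ne_one (e ▸ H.hr)
  · have hd : H.s ∣ 2 * H.r := ⟨orderOf x, by rw [← e, mul_comm]⟩
    rcases H.hs.dvd_mul.1 hd with hd | hd
    · exact H.hs2 ((Nat.prime_dvd_prime_iff_eq H.hs Nat.prime_two).1 hd)
    · exact H.hrs ((Nat.prime_dvd_prime_iff_eq H.hs H.hr).1 hd).symm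
  · nlinarith

theorem orderOf_of_odd {x : G} (hx : Odd (orderOf x)) (h1 : x ≠ 1) :
    orderOf x = H.r ∨ orderOf x = H.s := by
  rcases H.hord x with e | e | e | e | e
  · exact absurd (orderOf_eq_one_iff.1 e) h1
  · rw [e] at hx; exact absurd hx (by decide)
  · exact Or.inl e
  · rw [e] at hx; exact absurd hx (Nat.not_odd_iff_even.2 (even_two_mul _))
  · exact Or.inr e

/-- The centraliser of an element of order `2` or `r` is solvable with order `2^a r^b`. -/
theorem card_centralizer {x : G} (hx : orderOf x = 2 ∨ orderOf x = H.r) :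
    ∃ a b, Nat.card (centralizer ({x} : Set G)) = 2 ^ a * H.r ^ b := by
  refine eq_prime_pow_mul Nat.card_pos.ne' Nat.prime_two fun d hd hdvd => ?_
  haveI := Fact.mk hd
  obtain ⟨⟨y, hy⟩, hyo⟩ := exists_prime_orderOf_dvd_card' d hdvd
  rw [Subgroup.orderOf_mk] at hyo
  rcases H.prime_cases hd (hyo ▸ orderOf_dvd_natCard y) with e | e | e
  · exact Or.inl e
  · exact Or.inr e
  · exact (H.not_commute_s (hyo.trans e) hx (mem_centralizer_singleton_iff.1 hy).symm).elim

theorem solvable_centralizer {x : G} (hx : orderOf x = 2 ∨ orderOf x = H.r) :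
    Group.IsSolvable ↥(centralizer ({x} : Set G)) := by
  obtain ⟨a, b, h⟩ := H.card_centralizer hx
  exact S0144.result 2 H.r a b Nat.prime_two H.hr h

theorem card_centralizer_eq {x y : G} (h : orderOf x = orderOf y) :
    Nat.card (centralizer ({x} : Set G)) = Nat.card (centralizer ({y} : Set G)) := by
  obtain ⟨σ, rfl⟩ := H.hconj x y h
  rw [← centralizer_map_aut]
  exact (Subgroup.card_map_of_injective (f := σ.toMonoidHom) σ.injective).symm

/-- Centralisers of elements of prime order contain a full Sylow subgroup. -/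
theorem sylow_card_dvd {p : ℕ} [Fact p.Prime] (hp : p ∣ Nat.card G)
    {x : G} (hx : orderOf x = p) (P : Sylow p G) :
    Nat.card ↥(P : Subgroup G) ∣ Nat.card (centralizer ({x} : Set G)) := by
  haveI : Nontrivial (P : Subgroup G) := (nontrivial_iff_ne_bot _).2 (P.ne_bot_of_dvd_card hp)
  haveI := P.isPGroup'.center_nontrivial
  obtain ⟨⟨z, hzc⟩, hz1⟩ := exists_ne (1 : Subgroup.center (P : Subgroup G))
  have hpd : p ∣ orderOf z := by
    obtain ⟨k, hk⟩ := IsPGroup.iff_orderOf.1 P.isPGroup' z
    rw [hk]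
    refine dvd_pow_self p fun h => hz1 (Subtype.ext (orderOf_eq_one_iff.1 (by rw [hk, h, pow_zero])))
  have ho : orderOf z ≠ 0 := (orderOf_pos z).ne'
  obtain ⟨w, hw⟩ : ∃ w : ↥(P : Subgroup G), w = z ^ (orderOf z / p) := ⟨_, rfl⟩
  have hwo : orderOf (w : G) = p := by
    rw [Subgroup.orderOf_coe, hw, orderOf_pow_orderOf_div ho hpd]
  have hle : (P : Subgroup G) ≤ centralizer ({(w : G)} : Set G) := by
    intro y hy
    rw [mem_centralizer_singleton_iff]
    have hwc : w ∈ Subgroup.center (P : Subgroup G) := hw ▸ pow_mem hzc _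
    exact congrArg Subtype.val (Subgroup.mem_center_iff.1 hwc ⟨y, hy⟩)
  rw [H.card_centralizer_eq (hx.trans hwo.symm)]
  exact card_dvd_of_le hle

/-- A Sylow 2-subgroup is its own centraliser. -/
theorem centralizer_sylow (T : Sylow 2 G) :
    centralizer ((T : Subgroup G) : Set G) ≤ (T : Subgroup G) := by
  haveI : Fact (Nat.Prime 2) := ⟨Nat.prime_two⟩
  haveI := Fact.mk H.hr
  obtain ⟨t, ht⟩ := H.exists_two
  have heven : 2 ∣ Nat.card G := ht ▸ orderOf_dvd_natCard t
  have hrG : H.r ∣ Nat.card G := by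
    obtain ⟨x, hx⟩ := H.exists_r
    exact hx ▸ orderOf_dvd_natCard x
  obtain ⟨⟨u, huT⟩, hu⟩ :=
    exists_prime_orderOf_dvd_card' (G := ↥(T : Subgroup G)) 2 (T.dvd_card_of_dvd_card heven)
  rw [Subgroup.orderOf_mk] at hu
  have hnor : ∀ x ∈ centralizer ((T : Subgroup G) : Set G), orderOf x ≠ H.r := by
    intro x hx hxo
    have hle : (T : Subgroup G) ≤ centralizer ({x} : Set G) := fun y hy =>
      mem_centralizer_singleton_iff.2 (mem_centralizer_iff.1 hx y hy)
    have hTd := card_dvd_of_le hle
    obtain ⟨R⟩ := (inferInstance : Nonempty (Sylow H.r G))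
    have hRd := H.sylow_card_dvd hrG hxo R
    set i := (centralizer ({x} : Set G)).index with hi
    have hmul := (centralizer ({x} : Set G)).card_mul_index
    have hi2 : ¬ 2 ∣ i := fun h => by
      have h' := Nat.mul_dvd_mul hTd h
      rw [hmul, T.card_eq_multiplicity, ← pow_succ] at h'
      exact Nat.pow_succ_factorization_not_dvd Nat.card_pos.ne' Nat.prime_two h'
    have hir : ¬ H.r ∣ i := fun h => by
      have h' := Nat.mul_dvd_mul hRd h
      rw [hmul, R.card_eq_multiplicity, ← pow_succ] at h'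
      exact Nat.pow_succ_factorization_not_dvd Nat.card_pos.ne' H.hr h'
    have hik : i = H.s ^ i.primeFactorsList.length := by
      refine Nat.eq_prime_pow_of_unique_prime_dvd Subgroup.index_ne_zero_of_finite
        fun {d} hd hdv => ?_
      rcases H.prime_cases hd (hdv.trans (hmul ▸ dvd_mul_left i _)) with rfl | rfl | e
      · exact absurd hdv hi2
      · exact absurd hdv hir
      · exact e
    have hprime := S0143.result H.s _ H.hs x
      (fun e => H.hr.one_lt.ne (by rw [← hxo, e, orderOf_one])) hik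
    haveI : Fact (Nat.card G).Prime := ⟨hprime⟩
    haveI : IsCyclic G := isCyclic_of_prime_card rfl
    exact H.hna IsCyclic.isMulCommutative
  intro x hx
  rcases H.hord x with e | e | e | e | e
  · rw [orderOf_eq_one_iff.1 e]; exact one_mem _
  · exact mem_sylow_of_centralize T (IsPGroup.of_card (n := 1) (by
      rw [Nat.card_zpowers, e, pow_one])) hx
  · exact absurd e (hnor x hx)
  · exact absurd ((pairEquiv H.hr H.hr2) ⟨x, e⟩).2.2.1
      (hnor _ (pow_mem hx (H.r + 1)))
  · exact (H.not_commute_s e (Or.inl hu) (mem_centralizer_iff.1 hx u huT)).elim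

/-- The local setting of `H`. -/
noncomputable def toLoc : Loc G where
  r := H.r
  hr := H.hr
  hr2 := H.hr2
  hord g := by
    rcases H.hord g with e | e | e | e | e
    · exact Or.inl e
    · exact Or.inr (Or.inl (e ▸ Nat.prime_two))
    · exact Or.inr (Or.inl (e ▸ H.hr))
    · exact Or.inr (Or.inr e)
    · exact Or.inr (Or.inl (e ▸ H.hs))
  hconj s t hs ht := H.hconj s t (hs.trans ht.symm)
  T := default
  hCT := H.centralizer_sylow _
  heven := by
    obtain ⟨t, ht⟩ := H.exists_two
    exact ht ▸ orderOf_dvd_natCard t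
  hna := H.hna

/-- At most half of the group has order `s`. -/
theorem two_mul_num_s_le : 2 * num G H.s ≤ Nat.card G := by
  classical
  haveI := Fact.mk H.hs
  haveI := Fintype.ofFinite (Sylow H.s G)
  obtain ⟨y₀, hy₀⟩ := H.hsx
  have hsG : H.s ∣ Nat.card G := hy₀ ▸ orderOf_dvd_natCard y₀
  have hC : ∀ y : G, orderOf y = H.s → IsPGroup H.s ↥(centralizer ({y} : Set G)) := by
    rintro y hy ⟨g, hg⟩
    refine ⟨1, Subtype.ext ?_⟩
    have hc : Commute g y := mem_centralizer_singleton_iff.1 hg
    show g ^ H.s ^ 1 = 1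
    rw [pow_one, ← orderOf_dvd_iff_pow_eq_one]
    rcases H.hord g with e | e | e | e | e
    · rw [e]; exact one_dvd _
    · exact (H.not_commute_s hy (Or.inl e) hc).elim
    · exact (H.not_commute_s hy (Or.inr e) hc).elim
    · exact (H.not_commute_s hy (Or.inl ((pairEquiv H.hr H.hr2) ⟨g, e⟩).1.2)
        (hc.pow_left H.r)).elim
    · rw [e]
  have hcard : ∀ (y : G), orderOf y = H.s → ∀ P : Sylow H.s G,
      Nat.card (centralizer ({y} : Set G)) = Nat.card ↥(P : Subgroup G) := by
    intro y hy P
    obtain ⟨Q, hQ⟩ := (hC y hy).exists_le_sylow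
    refine Nat.dvd_antisymm ?_ (H.sylow_card_dvd hsG hy P)
    rw [P.card_eq_multiplicity, ← Q.card_eq_multiplicity]
    exact card_dvd_of_le hQ
  -- every element of order `s` is central in a unique Sylow subgroup
  let f : {g : G // orderOf g = H.s} →
      Σ P : Sylow H.s G, {z : Subgroup.center ↥(P : Subgroup G) // z ≠ 1} := fun g =>
    let P := (hC g.1 g.2).exists_le_sylow.choose
    have hP : centralizer ({g.1} : Set G) ≤ (P : Subgroup G) :=
      (hC g.1 g.2).exists_le_sylow.choose_spec
    ⟨P, ⟨⟨g.1, hP (mem_centralizer_singleton_iff.2 rfl)⟩, Subgroup.mem_center_iff.2 fun w =>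
      Subtype.ext (mem_centralizer_singleton_iff.1 (by
        rw [Subgroup.eq_of_le_of_card_ge hP (hcard g.1 g.2 P).ge]; exact w.2))⟩, fun h => H.hs.one_lt.ne (by
          have h' : g.1 = 1 := congrArg (fun u : Subgroup.center ↥(P : Subgroup G) =>
            ((u : ↥(P : Subgroup G)) : G)) h
          rw [← g.2, h', orderOf_one])⟩
  have hf : Function.Injective f := fun g g' h => by
    apply Subtype.ext
    exact congrArg (fun p : Σ P : Sylow H.s G, {z : Subgroup.center ↥(P : Subgroup G) // z ≠ 1} =>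
      ((p.2.1 : ↥(p.1 : Subgroup G)) : G)) h
  have hbound : ∀ P : Sylow H.s G,
      2 * (Nat.card (Subgroup.center ↥(P : Subgroup G)) - 1) ≤
        Nat.card ↥(normalizer ((P : Subgroup G) : Set G)) := by
    intro P
    by_cases htop : Subgroup.center ↥(P : Subgroup G) = ⊤
    · have hab : IsMulCommutative ↥(P : Subgroup G) := ⟨⟨fun a b =>
        Subgroup.mem_center_iff.1 (htop ▸ mem_top b) a⟩⟩
      have hlt : (P : Subgroup G) < normalizer ((P : Subgroup G) : Set G) := by
        refine lt_of_le_of_ne le_normalizer fun h => H68.burnside_not_abelian H.hna P hsG ?_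
        rw [← h]; exact le_centralizer_iff_isMulCommutative.2 hab
      obtain ⟨j, hj⟩ := card_dvd_of_le hlt.le
      have h2 : 2 ≤ j := by
        rcases j with _ | _ | j
        · rw [mul_zero] at hj; exact absurd hj Nat.card_pos.ne'
        · rw [zero_add, mul_one] at hj
          exact absurd (Subgroup.eq_of_le_of_card_ge hlt.le hj.le) hlt.ne
        · omega
      rw [htop, Subgroup.card_top, hj, mul_comm 2]
      exact Nat.mul_le_mul (Nat.sub_le _ _) h2
    · have h1 := (Subgroup.center ↥(P : Subgroup G)).card_mul_index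
      have h2 : 2 ≤ (Subgroup.center ↥(P : Subgroup G)).index :=
        Subgroup.one_lt_index_of_ne_top htop
      have h3 := Nat.le_of_dvd Nat.card_pos
        (card_dvd_of_le (le_normalizer (H := (P : Subgroup G))))
      nlinarith [Nat.sub_le (Nat.card (Subgroup.center ↥(P : Subgroup G))) 1]
  obtain ⟨P₀⟩ := (inferInstance : Nonempty (Sylow H.s G))
  have h1 : num G H.s ≤ ∑ P : Sylow H.s G, (Nat.card (Subgroup.center ↥(P : Subgroup G)) - 1) := by
    refine (Nat.card_le_card_of_injective f hf).trans (le_of_eq ?_)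
    rw [Nat.card_sigma]
    refine Finset.sum_congr rfl fun P _ => ?_
    haveI := Fintype.ofFinite (Subgroup.center ↥(P : Subgroup G))
    rw [Nat.card_eq_fintype_card, Fintype.card_subtype_compl, Fintype.card_subtype_eq,
      Nat.card_eq_fintype_card]
  calc 2 * num G H.s ≤ ∑ P : Sylow H.s G, 2 * (Nat.card (Subgroup.center ↥(P : Subgroup G)) - 1) := by
        rw [← Finset.mul_sum]; omega
    _ ≤ ∑ _P : Sylow H.s G, Nat.card ↥(normalizer ((P₀ : Subgroup G) : Set G)) := by
        refine Finset.sum_le_sum fun P _ => (hbound P).trans (le_of_eq ?_)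
        obtain ⟨g, hg⟩ := MulAction.exists_smul_eq G P₀ P
        rw [← hg, Sylow.coe_subgroup_smul, Subgroup.pointwise_smul_def]
        refine Eq.trans ?_ (Subgroup.card_map_of_injective
          (f := (MulAut.conj g).toMonoidHom) (MulEquiv.injective _))
        rw [Subgroup.map_equiv_normalizer_eq]
        rfl
    _ = Nat.card G := by
        rw [Finset.sum_const, Finset.card_univ, smul_eq_mul, ← Nat.card_eq_fintype_card,
          Sylow.card_eq_index_normalizer P₀, mul_comm]
        exact Subgroup.card_mul_index _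

theorem card_eq : Nat.card G = 1 + num G 2 + num G H.r + num G (2 * H.r) + num G H.s := by
  have h1 : num G 1 = 1 := by
    rw [num, Nat.card_eq_one_iff_unique]
    exact ⟨⟨fun a b => Subtype.ext ((orderOf_eq_one_iff.1 a.2).trans (orderOf_eq_one_iff.1 b.2).symm)⟩,
      ⟨1, orderOf_one⟩⟩
  have hr := H.hr.two_le
  have hs := H.hs.two_le
  have := H.hr2; have := H.hs2; have := H.hrs
  have hs2r : H.s ≠ 2 * H.r := fun h => Nat.not_prime_mul (by norm_num) H.hr.ne_one (h ▸ H.hs)
  rw [card_partition {1, 2, H.r, 2 * H.r, H.s} fun g => by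
    simp only [Finset.mem_insert, Finset.mem_singleton]; exact H.hord g]
  rw [Finset.sum_insert, Finset.sum_insert, Finset.sum_insert, Finset.sum_insert,
    Finset.sum_singleton, h1]
  · ring
  all_goals simp only [Finset.mem_insert, Finset.mem_singleton]; omega

end Two

end Cfsg.Agent.H76.FiveOrbits
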