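import Cfsg.Agent.H76.FiveOrbits.CaseTwo

/-!
The case where involutions have stabilisers of order `r` in the complement.
-/

set_option autoImplicit false
set_option linter.style.haveILetI false
set_option linter.unusedSectionVars false

namespace Cfsg.Agent.H76.FiveOrbits

open Subgroup
open scoped Pointwise

variable {G : Type*} [Group G]

/-- In a solvable group with abelian Sylow 2-subgroup, the 2-elements lie in `O(C) T`. -/
theorem sylow_two_normal_mod_core {C : Type*} [Group C] [Finite C] [Group.IsSolvable C]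
    (S : Sylow 2 C) (hab : IsMulCommutative ↥(S : Subgroup C)) {w : C}
    (hw : IsPGroup 2 (zpowers w)) :
    ∃ τ ∈ (S : Subgroup C), w * τ⁻¹ ∈ Cfsg.pPrimeCore 2 C := by
  haveI : Fact (Nat.Prime 2) := ⟨Nat.prime_two⟩
  set O := Cfsg.pPrimeCore 2 C with hO
  haveI hOn : O.Normal := Cfsg.pPrimeCore_normal 2 C
  have hbot : Cfsg.pPrimeCore 2 (C ⧸ O) = ⊥ := Components.pPrimeCore_quotient_eq_bot
  have hcen : centralizer (Cfsg.pCore 2 (C ⧸ O) : Set (C ⧸ O)) ≤ Cfsg.pCore 2 (C ⧸ O) :=
    Cores.centralizer_pCore_le Cores.isPSolvable_of_isSolvable hbot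
  set Sb := (S : Subgroup C).map (QuotientGroup.mk' O) with hSb
  let S' : Sylow 2 (C ⧸ O) := S.mapSurjective (QuotientGroup.mk'_surjective O)
  have hS' : (S' : Subgroup (C ⧸ O)) = Sb := rfl
  have hle : Cfsg.pCore 2 (C ⧸ O) ≤ Sb := hS' ▸ Cores.pCore_le_sylow S'
  have hge : Sb ≤ Cfsg.pCore 2 (C ⧸ O) := by
    refine le_trans ?_ hcen
    intro x hx
    refine mem_centralizer_iff.2 fun y hy => ?_
    obtain ⟨a, ha, rfl⟩ := hx
    obtain ⟨b, hb, rfl⟩ := hle hy
    rw [← map_mul, ← map_mul]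
    exact congrArg _ (congrArg Subtype.val (hab.is_comm.comm ⟨b, hb⟩ ⟨a, ha⟩))
  haveI : Sb.Normal := le_antisymm hle hge ▸ Cfsg.pCore_normal 2 (C ⧸ O)
  haveI : (S' : Subgroup (C ⧸ O)).Normal := by rwa [hS']
  have hp : IsPGroup 2 ((zpowers w).map (QuotientGroup.mk' O)) := hw.map _
  obtain ⟨P, hP⟩ := hp.exists_le_sylow
  obtain ⟨g, hg⟩ := MulAction.exists_smul_eq (C ⧸ O) S' P
  have hPS : (P : Subgroup (C ⧸ O)) ≤ Sb := by
    rw [← hg, Sylow.coe_subgroup_smul, Subgroup.pointwise_smul_def, hS']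
    rintro _ ⟨x, hx, rfl⟩
    exact (inferInstance : Sb.Normal).conj_mem x hx g
  obtain ⟨τ, hτ, he⟩ := hPS (hP ⟨w, mem_zpowers w, rfl⟩)
  refine ⟨τ, hτ, ?_⟩
  rw [← QuotientGroup.eq_one_iff, QuotientGroup.mk_mul, QuotientGroup.mk_inv, mul_inv_eq_one]
  exact he.symm

/-- An element of prime order `n` acting non-trivially on a subgroup of prime order `m`. -/
theorem dvd_sub_one_of_normalizes [Finite G] {x y : G} {m n : ℕ} (hm : m.Prime) (hn : n.Prime)
    (hx : orderOf x = m) (hy : orderOf y = n) (hne : ¬ Commute y x)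
    (hyN : y ∈ normalizer ((zpowers x : Subgroup G) : Set G)) : n ∣ m - 1 := by
  haveI : Fact (Nat.card ↥(zpowers x)).Prime := ⟨by rw [Nat.card_zpowers, hx]; exact hm⟩
  obtain ⟨φ, hφdef⟩ : ∃ φ : MulAut ↥(zpowers x),
      φ = (zpowers x).normalizerMonoidHom ⟨y, hyN⟩ := ⟨_, rfl⟩
  have hφ : φ ≠ 1 := by
    intro h1
    refine hne (mul_inv_eq_iff_eq_mul.1 ?_)
    have h2 : φ ⟨x, mem_zpowers x⟩ = ⟨x, mem_zpowers x⟩ := by rw [h1]; rfl
    rw [hφdef] at h2
    exact congrArg Subtype.val h2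
  have hy1 : y ^ n = 1 := by rw [← hy]; exact pow_orderOf_eq_one y
  have hφn : φ ^ n = 1 := by
    rw [hφdef, ← map_pow, show (⟨y, hyN⟩ : ↥(normalizer ((zpowers x : Subgroup G) : Set G))) ^ n = 1
      from Subtype.ext (by push_cast; exact hy1), map_one]
  haveI : IsCyclic ↥(zpowers x) := isCyclic_of_prime_card rfl
  have h3 := orderOf_dvd_natCard φ
  rwa [orderOf_eq_prime (hp := ⟨hn⟩) hφn hφ, IsCyclic.card_mulAut, Nat.card_zpowers, hx,
    Nat.totient_prime hm] at h3

namespace Two

variable [Finite G] [IsSimpleGroup G] (H : Two G) (K : H.toLoc.Compl)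

include H K

local notation "T₀" => ((H.toLoc.T : Sylow 2 G) : Subgroup G)

/-- A 2-element of `C(t)` is, modulo the odd core, in `T`. -/
theorem exists_tau {t w : G} (ht : t ∈ T₀) (ht1 : t ≠ 1)
    (hw : IsPGroup 2 (zpowers w)) (hwt : w ∈ centralizer ({t} : Set G)) :
    ∃ τ ∈ T₀, w * τ⁻¹ ∈ (Cfsg.pPrimeCore 2 ↥(centralizer ({t} : Set G))).map
      (centralizer ({t} : Set G)).subtype := by
  haveI : Fact (Nat.Prime 2) := ⟨Nat.prime_two⟩
  set C := centralizer ({t} : Set G) with hC
  have hTC : T₀ ≤ C := H.toLoc.T_le_centralizer ht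
  haveI := H.solvable_centralizer (Or.inl (H.toLoc.invol ht ht1))
  have hab : IsMulCommutative ↥((H.toLoc.T.subtype hTC : Sylow 2 C) : Subgroup C) :=
    ⟨⟨fun a b => Subtype.ext (Subtype.ext (H.toLoc.comm a.2 b.2).eq)⟩⟩
  have hw' : IsPGroup 2 (zpowers (⟨w, hwt⟩ : C)) := by
    obtain ⟨k, hk⟩ := IsPGroup.iff_card.1 hw
    refine IsPGroup.of_card (n := k) ?_
    rw [Nat.card_zpowers, Subgroup.orderOf_mk, ← Nat.card_zpowers, hk]
  obtain ⟨τ, hτ, h⟩ := sylow_two_normal_mod_core (H.toLoc.T.subtype hTC) hab hw'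
  exact ⟨(τ : G), hτ, ⟨_, h, rfl⟩⟩

theorem isPGroup_zpowers_of_two {w : G} (h : w * w = 1) : IsPGroup 2 (zpowers w) := by
  haveI : Fact (Nat.Prime 2) := ⟨Nat.prime_two⟩
  rcases eq_or_ne w 1 with rfl | h1
  · rw [zpowers_one_eq_bot]; exact IsPGroup.of_bot
  · refine IsPGroup.of_card (n := 1) ?_
    rw [Nat.card_zpowers, orderOf_eq_two_of_sq h h1, pow_one]

/-- The fixed points of `b` bound the 2-subgroups of `C(b)`. -/
theorem card_le_fix {b t : G} (hbA : b ∈ K.A) (hbo : orderOf b = H.r) (ht : t ∈ T₀) (ht1 : t ≠ 1)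
    (hbt : Commute b t) {Q : Subgroup G} (hQ : IsPGroup 2 Q)
    (hQb : Q ≤ centralizer ({b} : Set G)) :
    Nat.card Q ≤ Nat.card ↥(T₀ ⊓ centralizer ({b} : Set G)) := by
  classical
  haveI : Fact (Nat.Prime 2) := ⟨Nat.prime_two⟩
  set Cb := centralizer ({b} : Set G) with hCb
  -- move `Q` into a Sylow subgroup of `C(b)` containing `t`
  have htb : t ∈ Cb := mem_centralizer_singleton_iff.2 hbt.symm.eq
  have htp : IsPGroup 2 (zpowers (⟨t, htb⟩ : Cb)) := by
    refine IsPGroup.of_card (n := 1) ?_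
    rw [Nat.card_zpowers, Subgroup.orderOf_mk, pow_one, H.toLoc.invol ht ht1]
  obtain ⟨P, hP⟩ := htp.exists_le_sylow
  obtain ⟨Q', hQ'⟩ := (hQ.comap_of_injective Cb.subtype Cb.subtype_injective).exists_le_sylow
  have h1 : Nat.card Q ≤ Nat.card ↥(P : Subgroup Cb) := by
    rw [P.card_eq_multiplicity, ← Q'.card_eq_multiplicity,
      ← Nat.card_congr (Subgroup.subgroupOfEquivOfLe hQb).toEquiv]
    exact Nat.le_of_dvd Nat.card_pos (card_dvd_of_le hQ')
  refine h1.trans ?_
  have hsq : ∀ w ∈ (P : Subgroup Cb), (w : G) * (w : G) = 1 := by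
    intro w hw
    obtain ⟨k, hk⟩ := IsPGroup.iff_orderOf.1 P.isPGroup' ⟨w, hw⟩
    rw [Subgroup.orderOf_mk, ← Subgroup.orderOf_coe] at hk
    rw [← pow_two, ← orderOf_dvd_iff_pow_eq_one]
    rcases H.hord (w : G) with e | e | e | e | e
    · rw [e]; exact one_dvd _
    · rw [e]
    · rw [e] at hk
      exact absurd ((Nat.prime_dvd_prime_iff_eq H.hr Nat.prime_two).1
        (H.hr.dvd_of_dvd_pow (dvd_of_eq hk))) H.hr2
    · rw [e] at hk
      exact absurd ((Nat.prime_dvd_prime_iff_eq H.hr Nat.prime_two).1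
        (H.hr.dvd_of_dvd_pow (hk ▸ dvd_mul_left H.r 2))) H.hr2
    · rw [e] at hk
      exact absurd ((Nat.prime_dvd_prime_iff_eq H.hs Nat.prime_two).1
        (H.hs.dvd_of_dvd_pow (dvd_of_eq hk))) H.hs2
  have hPt : ∀ w ∈ (P : Subgroup Cb), (w : G) ∈ centralizer ({t} : Set G) := by
    intro w hw
    have htP : (⟨t, htb⟩ : Cb) ∈ (P : Subgroup Cb) := hP (mem_zpowers _)
    have h3 := hsq _ (mul_mem hw htP)
    rw [mem_centralizer_singleton_iff]
    have hwi : (w : G)⁻¹ = w := inv_eq_of_mul_eq_one_right (hsq _ hw)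
    have hti : t⁻¹ = t := inv_eq_of_mul_eq_one_right (hsq _ htP)
    push_cast at h3
    calc (w : G) * t = ((w : G) * t)⁻¹ := (inv_eq_of_mul_eq_one_right h3).symm
      _ = t * (w : G) := by rw [mul_inv_rev, hwi, hti]
  choose τ hτT hτ using fun (w : ↥(P : Subgroup Cb)) =>
    H.exists_tau K ht ht1 (H.isPGroup_zpowers_of_two K (hsq _ w.2)) (hPt _ w.2)
  set C := centralizer ({t} : Set G) with hC
  set O := (Cfsg.pPrimeCore 2 ↥C).map C.subtype with hO
  have hOodd : Odd (Nat.card O) := by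
    rw [hO, Subgroup.card_map_of_injective C.subtype_injective]
    exact Nat.coprime_two_right.1 Cores.coprime_card_pPrimeCore
  have hOT : ∀ y ∈ O, y ∈ T₀ → y = 1 := by
    intro y hy hyT
    by_contra h1
    have h := Subgroup.orderOf_dvd_natCard O hy
    rw [H.toLoc.invol hyT h1] at h
    exact absurd h (Nat.two_dvd_ne_zero.2 (Nat.odd_iff.1 hOodd))
  have hbC : b ∈ C := mem_centralizer_singleton_iff.2 hbt.eq
  have hbO : ∀ y ∈ O, b * y * b⁻¹ ∈ O := by
    rintro _ ⟨z, hz, rfl⟩
    exact ⟨⟨b, hbC⟩ * z * ⟨b, hbC⟩⁻¹, (Cfsg.pPrimeCore_normal 2 ↥C).conj_mem z hz _, rfl⟩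
  have hτb : ∀ w, τ w ∈ Cb := by
    intro w
    rw [hCb, mem_centralizer_singleton_iff]
    have hd : (τ w)⁻¹ * (b * τ w * b⁻¹) ∈ T₀ :=
      mul_mem (inv_mem (hτT w)) ((mem_normalizer_iff.1 (K.hAN hbA) _).1 (hτT w))
    have hwb : b * (w : G) * b⁻¹ = w := by
      rw [← mem_centralizer_singleton_iff.1 (w : Cb).2, mul_inv_cancel_right]
    have hdO : (τ w)⁻¹ * (b * τ w * b⁻¹) ∈ O := by
      have h1 := mul_mem (inv_mem (hbO _ (hτ w))) (hτ w)
      rw [show b * ((w : G) * (τ w)⁻¹) * b⁻¹ = b * (w : G) * b⁻¹ * (b * (τ w)⁻¹ * b⁻¹) by group,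
        hwb] at h1
      have h2 : ((w : G) * (b * (τ w)⁻¹ * b⁻¹))⁻¹ * ((w : G) * (τ w)⁻¹) =
          b * τ w * b⁻¹ * (τ w)⁻¹ := by group
      rw [h2] at h1
      have h3 := (H.toLoc.comm ((mem_normalizer_iff.1 (K.hAN hbA) _).1 (hτT w))
        (inv_mem (hτT w))).eq
      rwa [← h3]
    have := hOT _ hdO hd
    rw [inv_mul_eq_one, eq_mul_inv_iff_mul_eq] at this
    exact this
  refine Nat.card_le_card_of_injective (fun w => (⟨τ w, hτT w, hτb w⟩ : ↥(T₀ ⊓ Cb))) ?_
  intro w w' h
  have he : τ w = τ w' := congrArg (fun u : ↥(T₀ ⊓ Cb) => (u : G)) h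
  have hmem : (w : G) * (w' : G)⁻¹ ∈ O := by
    have := mul_mem (hτ w) (inv_mem (hτ w'))
    rwa [he, show (w : G) * (τ w')⁻¹ * ((w' : G) * (τ w')⁻¹)⁻¹ = (w : G) * (w' : G)⁻¹ by group]
      at this
  have hww : (w : G) * (w' : G)⁻¹ = 1 := by
    by_contra h1
    have ho : orderOf ((w : G) * (w' : G)⁻¹) = 2 := orderOf_eq_two_of_sq (by
      have := hsq _ (mul_mem w.2 (inv_mem w'.2))
      push_cast at this
      exact this) h1
    have h := Subgroup.orderOf_dvd_natCard O hmem
    rw [ho] at h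
    exact absurd h (Nat.two_dvd_ne_zero.2 (Nat.odd_iff.1 hOodd))
  exact Subtype.ext (Subtype.ext (mul_inv_eq_one.1 hww))

/-- The case of stabilisers of order `r`. -/
theorem false_of_stab {p : ℕ} (hp : p.Prime) (hp2 : p ≠ 2) {a : G} (haA : a ∈ K.A)
    (hao : orderOf a = p) (hnorm : K.A ≤ normalizer ((zpowers a : Subgroup G) : Set G))
    (hfree : ∀ x ∈ zpowers a, x ≠ 1 → ∀ t ∈ T₀, Commute x t → t = 1)
    (hA : Nat.card K.A = p * H.r) (hpr : p ≠ H.r)
    (hstab : ∀ t ∈ T₀, t ≠ 1 → Nat.card (Loc.Compl.stab K.A t) = H.r)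
    {t b : G} (ht : t ∈ T₀) (ht1 : t ≠ 1) (hbA : b ∈ K.A) (hbo : orderOf b = H.r)
    (hbt : Commute b t) : False := by
  classical
  haveI : Fact (Nat.Prime 2) := ⟨Nat.prime_two⟩
  haveI := Fact.mk H.hr
  set q := Nat.card ↥T₀ with hq
  have hto := H.toLoc.invol ht ht1
  have hps : p = H.s := by
    rcases H.orderOf_of_odd (hao ▸ hp.odd_of_ne_two hp2)
      (fun h => hp.one_lt.ne (by rw [← hao, h, orderOf_one])) with e | e
    · exact absurd (hao ▸ e) hpr
    · exact hao ▸ e
  have hbnot : b ∉ zpowers a := fun h => ht1 (hfree b h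
    (fun e => H.hr.one_lt.ne (by rw [← hbo, e, orderOf_one])) t ht hbt)
  have hbb : b⁻¹ ∈ K.A := inv_mem hbA
  -- `b` and a conjugate have no common fixed point
  set c := a * b * a⁻¹ * b⁻¹ with hc
  have hca : c ∈ zpowers a := by
    have h1 := (mem_normalizer_iff.1 (hnorm hbA) a⁻¹).1 (inv_mem (mem_zpowers a))
    rw [hc, show a * b * a⁻¹ * b⁻¹ = a * (b * a⁻¹ * b⁻¹) by group]
    exact mul_mem (mem_zpowers a) h1
  have hc1 : c ≠ 1 := by
    intro h
    have hcom : Commute a b := by
      rwa [hc, mul_inv_eq_one, mul_inv_eq_iff_eq_mul] at h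
    exact H.not_commute_s (hao.trans hps) (Or.inr hbo) hcom.symm
  set T₁ := T₀ ⊓ centralizer ({b} : Set G) with hT₁
  have hsmall : Nat.card T₁ * Nat.card T₁ ≤ q := by
    rw [← Nat.card_prod]
    refine Nat.card_le_card_of_injective (fun u : ↥T₁ × ↥T₁ =>
      (⟨(u.1 : G) * (a * (u.2 : G) * a⁻¹),
        mul_mem (mem_inf.1 u.1.2).1 ((mem_normalizer_iff.1 (K.hAN haA) _).1 (mem_inf.1 u.2.2).1)⟩ : ↥T₀))
      ?_
    intro u v huv
    have he : (u.1 : G) * (a * (u.2 : G) * a⁻¹) = (v.1 : G) * (a * (v.2 : G) * a⁻¹) :=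
      congrArg Subtype.val huv
    set z := (v.1 : G)⁻¹ * (u.1 : G) with hz
    have hzT : z ∈ T₁ := mul_mem (inv_mem v.1.2) u.1.2
    have hze : z = a * ((v.2 : G) * (u.2 : G)⁻¹) * a⁻¹ := by
      calc z = (v.1 : G)⁻¹ * ((u.1 : G) * (a * (u.2 : G) * a⁻¹)) * (a * (u.2 : G) * a⁻¹)⁻¹ := by
            rw [hz]; group
        _ = _ := by rw [he]; group
    have hzb : Commute b z := (mem_centralizer_singleton_iff.1 (mem_inf.1 hzT).2).symm
    have hzab : Commute (a * b * a⁻¹) z := by
      have h0 : Commute b ((v.2 : G) * (u.2 : G)⁻¹) :=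
        (mem_centralizer_singleton_iff.1 (mul_mem (mem_inf.1 v.2.2).2 (inv_mem (mem_inf.1 u.2.2).2))).symm
      rw [hze]
      exact h0.map (MulAut.conj a).toMonoidHom
    have hz1 : z = 1 := hfree c hca hc1 z (mem_inf.1 hzT).1 (hzab.mul_left hzb.inv_left)
    have h1 : (u.1 : G) = v.1 := (inv_mul_eq_one.1 hz1).symm
    rw [h1] at he
    exact Prod.ext (Subtype.ext h1)
      (Subtype.ext (mul_left_cancel (mul_right_cancel (mul_left_cancel he))))
  -- `T` is not tiny
  have hq8 : 8 ≤ q := by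
    have h := K.le_card_sub_one haA hfree
    rw [hao] at h
    have hrp : H.r ∣ p - 1 := dvd_sub_one_of_normalizes hp H.hr hao hbo
      (fun h => H.not_commute_s (hao.trans hps) (Or.inr hbo) h) (hnorm hbA)
    have h3 : 3 ≤ H.r := by have := H.hr.two_le; have := H.hr2; omega
    have h4 : 4 ≤ p := by
      have := hp.two_le
      have := Nat.le_of_dvd (by omega) hrp
      omega
    obtain ⟨k, hk⟩ := IsPGroup.iff_card.1 H.toLoc.T.isPGroup'
    rw [← hq] at hk
    rcases lt_or_ge k 3 with hk3 | hk3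
    · interval_cases k <;> omega
    · rw [hk]; exact le_trans (by norm_num) (Nat.pow_le_pow_right two_pos hk3)
  -- the odd cores of involution centralisers are trivial
  have hcore : ∀ u ∈ T₀, u ≠ 1 → Cfsg.pPrimeCore 2 ↥(centralizer ({u} : Set G)) = ⊥ := by
    intro u hu hu1
    by_contra hne
    set C := centralizer ({u} : Set G) with hC
    have hTn : T₀ ≤ normalizer (((Cfsg.pPrimeCore 2 ↥C).map C.subtype : Subgroup G) : Set G) := by
      refine (H.toLoc.T_le_centralizer hu).trans fun c hc => mem_normalizer_iff.2 fun x => ?_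
      have key : ∀ c ∈ C, ∀ x ∈ (Cfsg.pPrimeCore 2 ↥C).map C.subtype,
          c * x * c⁻¹ ∈ (Cfsg.pPrimeCore 2 ↥C).map C.subtype := by
        rintro c hc _ ⟨y, hy, rfl⟩
        exact ⟨⟨c, hc⟩ * y * ⟨c, hc⟩⁻¹, (Cfsg.pPrimeCore_normal 2 ↥C).conj_mem y hy _, rfl⟩
      exact ⟨key c hc x, fun h => by simpa [mul_assoc] using key c⁻¹ (inv_mem hc) _ h⟩
    obtain ⟨x, hx, B, hBT, hBcard, hBx⟩ := H.exists_big K
      (fun h => hne ((Subgroup.map_eq_bot_iff_of_injective _ C.subtype_injective).1 h))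
      (by rw [Subgroup.card_map_of_injective C.subtype_injective]
          exact Nat.coprime_two_right.1 Cores.coprime_card_pPrimeCore)
      (H.toLoc.invol hu hu1) (map_subtype_le _) hTn
    obtain ⟨σ, hσ⟩ := H.hconj x b (hx.trans hbo.symm)
    have h1 := H.card_le_fix K hbA hbo ht ht1 hbt (Q := B.map σ.toMonoidHom)
      ((H.toLoc.T.isPGroup'.to_le hBT).map _)
      (by rw [← hσ, ← centralizer_map_aut]; exact map_mono hBx)
    rw [Subgroup.card_map_of_injective (f := σ.toMonoidHom) σ.injective, ← hT₁] at h1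
    rw [← hq] at hBcard
    nlinarith
  -- involution centralisers normalise `T`
  have hnormal : ∀ u ∈ T₀, u ≠ 1 →
      centralizer ({u} : Set G) ≤ normalizer (T₀ : Set G) ∧
        Nat.card (centralizer ({u} : Set G)) = q * H.r ∧
        ∀ w ∈ centralizer ({u} : Set G), w * w = 1 → w ∈ T₀ := by
    intro u hu hu1
    have h2 : ∀ w ∈ centralizer ({u} : Set G), w * w = 1 → w ∈ T₀ := by
      intro w hw hw2
      obtain ⟨τ, hτ, h⟩ := H.exists_tau K hu hu1 (H.isPGroup_zpowers_of_two K hw2) hw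
      rw [hcore u hu hu1, Subgroup.map_bot, mem_bot, mul_inv_eq_one] at h
      rwa [h]
    have hle : centralizer ({u} : Set G) ≤ normalizer (T₀ : Set G) := by
      intro g hg
      have key : ∀ g ∈ centralizer ({u} : Set G), ∀ x ∈ T₀, g * x * g⁻¹ ∈ T₀ := fun g hg x hx =>
        h2 _ (mul_mem (mul_mem hg (H.toLoc.T_le_centralizer hu hx)) (inv_mem hg))
          (by rw [conj_mul, H.toLoc.sq_eq_one hx]; group)
      exact mem_normalizer_iff.2 fun x =>
        ⟨key g hg x, fun h => by simpa [mul_assoc] using key g⁻¹ (inv_mem hg) _ h⟩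
    refine ⟨hle, ?_, h2⟩
    have h := congrArg (fun X : Subgroup G => Nat.card X) (K.sup_inf_centralizer le_rfl hu)
    simp only [K.card_sup (F := Loc.Compl.stab K.A u) inf_le_left, hstab u hu hu1] at h
    rw [K.hsup, inf_eq_right.2 hle] at h
    exact h
  have hr2A : ¬ H.r ^ 2 ∣ q * (p * H.r) := by
    intro h
    rw [pow_two, show q * (p * H.r) = q * p * H.r by ring] at h
    have h' := Nat.dvd_of_mul_dvd_mul_right H.hr.pos h
    rcases H.hr.dvd_mul.1 h' with h' | h'
    · obtain ⟨k, hk⟩ := IsPGroup.iff_card.1 H.toLoc.T.isPGroup'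
      rw [← hq] at hk
      exact H.hr2 ((Nat.prime_dvd_prime_iff_eq H.hr Nat.prime_two).1
        (H.hr.dvd_of_dvd_pow (hk ▸ h')))
    · exact hpr ((Nat.prime_dvd_prime_iff_eq H.hr hp).1 h').symm
  have hNcard : Nat.card ↥(normalizer (T₀ : Set G)) = q * (p * H.r) := by
    rw [← K.hsup, K.card_sup le_rfl, hA]
  set Cb := centralizer ({b} : Set G) with hCb
  have htb : t ∈ Cb := mem_centralizer_singleton_iff.2 hbt.symm.eq
  obtain ⟨R⟩ := (inferInstance : Nonempty (Sylow H.r G))
  have hrG : H.r ∣ Nat.card G := hbo ▸ orderOf_dvd_natCard b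
  have hRCb := H.sylow_card_dvd hrG hbo R
  -- the Sylow `r`-subgroups are not of prime order
  have hr2G : H.r ^ 2 ∣ Nat.card G := by
    by_contra hn
    obtain ⟨P, hP⟩ := (IsPGroup.of_card (n := 1) (G := ↥(zpowers b))
      (by rw [Nat.card_zpowers, hbo, pow_one])).exists_le_sylow
    have hPc : Nat.card ↥(P : Subgroup G) = H.r := by
      obtain ⟨k, hk⟩ := IsPGroup.iff_card.1 P.isPGroup'
      have h1 : H.r ∣ H.r ^ k := by
        rw [← hk]
        have := card_dvd_of_le hP
        rwa [Nat.card_zpowers, hbo] at this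
      rcases k with _ | _ | k
      · rw [pow_zero, Nat.dvd_one] at h1; exact absurd h1 H.hr.ne_one
      · rw [hk, zero_add, pow_one]
      · exact absurd ((pow_dvd_pow H.r (by omega)).trans
          (hk ▸ card_subgroup_dvd_card (P : Subgroup G))) hn
    have hPb : (P : Subgroup G) = zpowers b :=
      (Subgroup.eq_of_le_of_card_ge hP (by rw [hPc, Nat.card_zpowers, hbo])).symm
    have hcomm : ∀ g : G, g ∈ centralizer ({b} : Set G) →
        g ∈ centralizer ((P : Subgroup G) : Set G) := by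
      intro g hg
      refine mem_centralizer_iff.2 fun x hx => ?_
      rw [SetLike.mem_coe, hPb] at hx
      obtain ⟨i, rfl⟩ := mem_zpowers_iff.1 hx
      exact (Commute.zpow_left (Commute.symm (mem_centralizer_singleton_iff.1 hg : Commute g b)) i).eq
    refine H68.burnside_not_abelian H.hna P hrG fun g hg => ?_
    by_contra hgc
    have hgb : ¬ Commute g b := fun h => hgc (hcomm g (mem_centralizer_singleton_iff.2 h.eq))
    -- an element of prime order other than `r` acting non-trivially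
    obtain ⟨w, hwN, hwb, hw⟩ : ∃ w ∈ normalizer ((P : Subgroup G) : Set G),
        ¬ Commute w b ∧ (orderOf w = 2 ∨ orderOf w = H.s) := by
      have hrP : ∀ x ∈ normalizer ((P : Subgroup G) : Set G), orderOf x = H.r → Commute x b := by
        intro x hx hxo
        have hle : zpowers x ≤ normalizer ((P : Subgroup G) : Set G) := zpowers_le.2 hx
        have hxp : IsPGroup H.r (zpowers x) :=
          IsPGroup.of_card (n := 1) (by rw [Nat.card_zpowers, hxo, pow_one])
        have hsup := P.3 (P.isPGroup'.to_sup_of_normal_left' hxp hle) le_sup_left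
        have hxP : x ∈ zpowers b := hPb ▸ (hsup ▸ mem_sup_right (mem_zpowers x))
        obtain ⟨i, rfl⟩ := mem_zpowers_iff.1 hxP
        exact (Commute.refl b).zpow_left i
      rcases H.hord g with e | e | e | e | e
      · exact absurd (by rw [orderOf_eq_one_iff.1 e]; exact Commute.one_left b) hgb
      · exact ⟨g, hg, hgb, Or.inl e⟩
      · exact absurd (hrP g hg e) hgb
      · refine ⟨g ^ H.r, pow_mem hg _, fun h => hgb ?_,
          Or.inl ((pairEquiv H.hr H.hr2) ⟨g, e⟩).1.2⟩
        have h' := hrP (g ^ (H.r + 1)) (pow_mem hg _) ((pairEquiv H.hr H.hr2) ⟨g, e⟩).2.2.1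
        have hg2 : g ^ (2 * H.r) = 1 := by rw [← e]; exact pow_orderOf_eq_one g
        have hgg : g ^ H.r * g ^ (H.r + 1) = g := by
          rw [← pow_add, show H.r + (H.r + 1) = 2 * H.r + 1 by omega, pow_succ, hg2, one_mul]
        exact hgg ▸ h.mul_left h'
      · exact ⟨g, hg, hgb, Or.inr e⟩
    rcases hw with hw | hw
    · -- an involution inverting `b` fixes a Sylow 2-subgroup of `C(b)`
      have hw2 : w * w = 1 := by rw [← pow_two, ← hw, pow_orderOf_eq_one]
      have hwi : w⁻¹ = w := inv_eq_of_mul_eq_one_right hw2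
      have hwbP : w * b * w⁻¹ ∈ zpowers b := by
        rw [← hPb]
        exact (mem_normalizer_iff.1 hwN b).1 (hP (mem_zpowers b))
      obtain ⟨i, hi⟩ := mem_zpowers_iff.1 hwbP
      have hwC : ∀ x ∈ Cb, w * x * w⁻¹ ∈ Cb := by
        intro x hx
        have hxb : Commute (b ^ i) x :=
          Commute.zpow_left (Commute.symm (mem_centralizer_singleton_iff.1 hx : Commute x b)) i
        have hxb' : Commute (w * b * w⁻¹) x := hi ▸ hxb
        rw [hCb, mem_centralizer_singleton_iff]
        have h := (hxb'.map (MulAut.conj w).toMonoidHom).symm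
        simp only [MulEquiv.coe_toMonoidHom, MulAut.conj_apply] at h
        rwa [show w * (w * b * w⁻¹) * w⁻¹ = b by
          rw [hwi, ← mul_assoc, ← mul_assoc, hw2, one_mul, mul_assoc, hw2, mul_one]] at h
      -- the involutions of `C(b)`
      let X := {v : G // orderOf v = 2 ∧ Commute b v}
      haveI : Fintype X := Fintype.ofFinite X
      let σ : Equiv.Perm X :=
        { toFun := fun v => ⟨w * v.1 * w⁻¹, by rw [H65.orderOf_conj', v.2.1],
            (mem_centralizer_singleton_iff.1 (hwC v.1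
              (mem_centralizer_singleton_iff.2 v.2.2.symm.eq))).symm⟩
          invFun := fun v => ⟨w * v.1 * w⁻¹, by rw [H65.orderOf_conj', v.2.1],
            (mem_centralizer_singleton_iff.1 (hwC v.1
              (mem_centralizer_singleton_iff.2 v.2.2.symm.eq))).symm⟩
          left_inv := fun v => Subtype.ext (by
            show w * (w * v.1 * w⁻¹) * w⁻¹ = v.1
            rw [hwi, ← mul_assoc, ← mul_assoc, hw2, one_mul, mul_assoc, hw2, mul_one])
          right_inv := fun v => Subtype.ext (by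
            show w * (w * v.1 * w⁻¹) * w⁻¹ = v.1
            rw [hwi, ← mul_assoc, ← mul_assoc, hw2, one_mul, mul_assoc, hw2, mul_one]) }
      have hodd : ¬ 2 ∣ Fintype.card X := by
        -- there are evenly many square roots of one in a group of even order
        haveI := Fintype.ofFinite ↥Cb
        let S := {x : ↥Cb // x * x = 1}
        haveI : Fintype S := Fintype.ofFinite S
        have hS : 2 ∣ Fintype.card S := by
          have h2 : 2 ∣ Nat.card ↥Cb := by
            have := Subgroup.orderOf_dvd_natCard Cb htb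
            rwa [hto] at this
          let ι : Equiv.Perm ↥Cb := Equiv.inv ↥Cb
          have hι : ι ^ 2 ^ 1 = 1 := by
            ext x; simp [ι, pow_two]
          have h := Equiv.Perm.card_compl_support_modEq (p := 2) (n := 1) hι
          have hs : ι.supportᶜ.card = Fintype.card S := by
            rw [Fintype.card_subtype]
            congr 1
            ext x
            simp [ι, inv_eq_iff_mul_eq_one]
          rw [hs, ← Nat.card_eq_fintype_card (α := ↥Cb)] at h
          exact (Nat.modEq_zero_iff_dvd.1 (h.trans (Nat.modEq_zero_iff_dvd.2 h2)))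
        let e : Option X ≃ S :=
          { toFun := fun o => o.elim ⟨1, one_mul 1⟩ fun v =>
              ⟨⟨v.1, mem_centralizer_singleton_iff.2 v.2.2.symm.eq⟩, Subtype.ext (by
                show v.1 * v.1 = 1
                have h2 := pow_orderOf_eq_one v.1
                rwa [v.2.1, pow_two] at h2)⟩
            invFun := fun x => if h : (x.1 : G) = 1 then none else
              some ⟨(x.1 : G), orderOf_eq_two_of_sq (congrArg Subtype.val x.2) h,
                (mem_centralizer_singleton_iff.1 x.1.2).symm⟩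
            left_inv := fun o => by
              rcases o with _ | v
              · simp
              · have hv : v.1 ≠ 1 := fun h => by
                  have := v.2.1; rw [h, orderOf_one] at this; exact absurd this (by norm_num)
                simp [hv]
            right_inv := fun x => by
              by_cases h : (x.1 : G) = 1
              · simp only [dif_pos h, Option.elim_none]
                exact Subtype.ext (Subtype.ext h.symm)
              · simp only [dif_neg h, Option.elim_some]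
                exact Subtype.ext (Subtype.ext rfl) }
        rw [← Fintype.card_congr e, Fintype.card_option] at hS
        omega
      obtain ⟨⟨v, hv, hvb⟩, hfix⟩ := Equiv.Perm.exists_fixed_point_of_prime (p := 2) (n := 1) hodd
        (σ := σ) (by
          ext u
          show w * (w * u.1 * w⁻¹) * w⁻¹ = u.1
          rw [hwi, ← mul_assoc, ← mul_assoc, hw2, one_mul, mul_assoc, hw2, mul_one])
      have hwv : Commute w v := mul_inv_eq_iff_eq_mul.1 (congrArg Subtype.val hfix)
      obtain ⟨ρ, hρ⟩ := H.hconj v t (hv.trans hto.symm)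
      obtain ⟨hle, -, h2⟩ := hnormal t ht ht1
      have hwT : ρ w ∈ T₀ := h2 _
        (mem_centralizer_singleton_iff.2 (by rw [← hρ]; exact (hwv.map ρ.toMonoidHom).eq))
        (by rw [← map_mul, hw2, map_one])
      have hbN : ρ b ∈ normalizer (T₀ : Set G) :=
        hle (mem_centralizer_singleton_iff.2 (by rw [← hρ]; exact (hvb.map ρ.toMonoidHom).eq))
      set d := w * b * w⁻¹ * b⁻¹ with hd
      have hdT : ρ d ∈ T₀ := by
        simp only [hd, map_mul, map_inv]
        rw [mul_assoc, mul_assoc]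
        refine mul_mem hwT ?_
        rw [← mul_assoc]
        exact (mem_normalizer_iff.1 hbN _).1 (inv_mem hwT)
      have hd1 : d ≠ 1 := fun h => hwb (mul_inv_eq_iff_eq_mul.1 (mul_inv_eq_one.1 h))
      have hdo : orderOf d = H.r := by
        refine orderOf_eq_prime ?_ hd1
        have hdb : d = b ^ (i - 1) := by
          rw [hd, ← hi, zpow_sub, zpow_one]
        rw [hdb, ← zpow_natCast, ← zpow_mul, mul_comm, zpow_mul, zpow_natCast, ← hbo,
          pow_orderOf_eq_one, one_zpow]
      have := H.toLoc.invol hdT (fun h => hd1 (ρ.injective (h.trans (map_one ρ).symm)))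
      rw [MulEquiv.orderOf_eq, hdo] at this
      exact H.hr2 this
    · -- `s` divides `r - 1` and `r` divides `s - 1`
      have hN : b ∈ normalizer ((zpowers a : Subgroup G) : Set G) := hnorm hbA
      have h1 : H.s ∣ H.r - 1 := dvd_sub_one_of_normalizes H.hr H.hs hbo hw hwb (hPb ▸ hwN)
      have h2 : H.r ∣ H.s - 1 := dvd_sub_one_of_normalizes H.hs H.hr (hao.trans hps) hbo
        (fun h => H.not_commute_s (hao.trans hps) (Or.inr hbo) h) hN
      have := H.hr.two_le
      have := H.hs.two_le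
      have := Nat.le_of_dvd (by omega) h1
      have := Nat.le_of_dvd (by omega) h2
      omega
  have hr2Cb : H.r ^ 2 ∣ Nat.card Cb := by
    refine dvd_trans ?_ hRCb
    rw [R.card_eq_multiplicity]
    exact pow_dvd_pow _ ((H.hr.pow_dvd_iff_le_factorization Nat.card_pos.ne').1 hr2G)
  -- the fixed points of `b` form a group of order two
  have hT₁2 : Nat.card T₁ = 2 := by
    have htT₁ : t ∈ T₁ := ⟨ht, htb⟩
    have h2dvd : 2 ∣ Nat.card T₁ := by
      have := Subgroup.orderOf_dvd_natCard T₁ htT₁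
      rwa [hto] at this
    obtain ⟨k, hk⟩ := IsPGroup.iff_card.1 (H.toLoc.T.isPGroup'.to_le (inf_le_left : T₁ ≤ T₀))
    by_contra hne
    have hk2 : 2 ≤ k := by
      rcases k with _ | _ | k
      · rw [hk, pow_zero] at h2dvd; norm_num at h2dvd
      · exact absurd hk (by rw [zero_add, pow_one]; exact hne)
      · omega
    haveI : IsMulCommutative ↥T₁ := ⟨⟨fun x y => Subtype.ext (H.toLoc.comm (mem_inf.1 x.2).1 (mem_inf.1 y.2).1).eq⟩⟩
    have hnc : ¬ IsCyclic ↥T₁ := by
      intro hcyc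
      obtain ⟨⟨g, hg⟩, hgen⟩ := IsCyclic.exists_ofOrder_eq_natCard (α := ↥T₁)
      rw [Subgroup.orderOf_mk, hk] at hgen
      have : orderOf g ∣ 2 := orderOf_dvd_of_pow_eq_one (by rw [pow_two]; exact H.toLoc.sq_eq_one (mem_inf.1 hg).1)
      rw [hgen] at this
      have := Nat.le_of_dvd two_pos this
      have : 4 ≤ 2 ^ k := le_trans (by norm_num) (Nat.pow_le_pow_right two_pos hk2)
      omega
    haveI hbs := H.solvable_centralizer (Or.inr hbo : orderOf b = 2 ∨ orderOf b = H.r)
    set Ob := (Cfsg.pPrimeCore 2 ↥Cb).map Cb.subtype with hOb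
    have hObn : ∀ c ∈ Cb, ∀ x ∈ Ob, c * x * c⁻¹ ∈ Ob := by
      rintro c hc _ ⟨y, hy, rfl⟩
      exact ⟨⟨c, hc⟩ * y * ⟨c, hc⟩⁻¹, (Cfsg.pPrimeCore_normal 2 ↥Cb).conj_mem y hy _, rfl⟩
    have hObodd : Odd (Nat.card Ob) := by
      rw [hOb, Subgroup.card_map_of_injective Cb.subtype_injective]
      exact Nat.coprime_two_right.1 Cores.coprime_card_pPrimeCore
    have hOble : Ob ≤ zpowers b := by
      refine Coprime.le_of_centralizer_noncyclic_le hnc ?_ ?_ ?_
      · intro c hc
        exact mem_normalizer_iff.2 fun x => ⟨hObn c (mem_inf.1 hc).2 x, fun h => by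
          simpa [mul_assoc] using hObn c⁻¹ (inv_mem (mem_inf.1 hc).2) _ h⟩
      · rw [hk]; exact (Nat.coprime_two_left.2 hObodd).pow_left k
      intro u hu hu1 x hx
      obtain ⟨hle, hcu, -⟩ := hnormal u (mem_inf.1 hu).1 hu1
      by_contra hxb
      have hxo : Odd (orderOf x) :=
        hObodd.of_dvd_nat (Subgroup.orderOf_dvd_natCard Ob (mem_inf.1 hx).1)
      have hx1 : x ≠ 1 := fun h => hxb (h ▸ one_mem _)
      have hxu : x ∈ centralizer ({u} : Set G) := (mem_inf.1 hx).2
      have hxr : orderOf x = H.r := by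
        rcases H.orderOf_of_odd hxo hx1 with e | e
        · exact e
        · exact (H.not_commute_s e (Or.inl (H.toLoc.invol (mem_inf.1 hu).1 hu1))
            (mem_centralizer_singleton_iff.1 hxu).symm).elim
      have hbx : Commute b x :=
        (mem_centralizer_singleton_iff.1 (map_subtype_le _ (mem_inf.1 hx).1 : x ∈ Cb)).symm
      have hbu : b ∈ centralizer ({u} : Set G) :=
        mem_centralizer_singleton_iff.2 (mem_centralizer_singleton_iff.1 (mem_inf.1 hu).2).symm
      have hnb : zpowers x ≤ normalizer ((zpowers b : Subgroup G) : Set G) := by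
        refine zpowers_le.2 (centralizer_le_normalizer _ (mem_centralizer_iff.2 fun y hy => ?_))
        obtain ⟨i, rfl⟩ := mem_zpowers_iff.1 hy
        exact (hbx.zpow_left i).eq
      have hlt : zpowers b < zpowers b ⊔ zpowers x :=
        lt_of_le_of_ne le_sup_left fun h => hxb (h ▸ mem_sup_right (mem_zpowers x))
      have hp' : IsPGroup H.r ↥(zpowers b ⊔ zpowers x) :=
        (IsPGroup.of_card (n := 1) (by rw [Nat.card_zpowers, hbo, pow_one])).to_sup_of_normal_left'
          (IsPGroup.of_card (n := 1) (by rw [Nat.card_zpowers, hxr, pow_one])) hnb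
      obtain ⟨j, hj⟩ := IsPGroup.iff_card.1 hp'
      have hj2 : 2 ≤ j := by
        have h1 := card_dvd_of_le hlt.le
        rw [Nat.card_zpowers, hbo, hj] at h1
        rcases j with _ | _ | j
        · rw [pow_zero, Nat.dvd_one] at h1; exact absurd h1 H.hr.ne_one
        · exact absurd (Subgroup.eq_of_le_of_card_ge hlt.le
            (by rw [hj, Nat.card_zpowers, hbo, zero_add, pow_one])) hlt.ne
        · omega
      refine hr2A ((pow_dvd_pow _ hj2).trans (hj ▸ ?_))
      have h1 := card_dvd_of_le (sup_le (zpowers_le.2 (hle hbu)) (zpowers_le.2 (hle hxu)) :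
        zpowers b ⊔ zpowers x ≤ normalizer (T₀ : Set G))
      rwa [hNcard] at h1
    -- a non-trivial normal 2-subgroup of `C(b)`
    set Q := (Cfsg.pPrimeCore H.r ↥Cb).map Cb.subtype with hQdef
    have hQn : ∀ c ∈ Cb, ∀ x ∈ Q, c * x * c⁻¹ ∈ Q := by
      rintro c hc _ ⟨y, hy, rfl⟩
      exact ⟨⟨c, hc⟩ * y * ⟨c, hc⟩⁻¹, (Cfsg.pPrimeCore_normal H.r ↥Cb).conj_mem y hy _, rfl⟩
    have hQne : Q ≠ ⊥ := by
      rw [Ne, hQdef, Subgroup.map_eq_bot_iff_of_injective _ Cb.subtype_injective]
      intro hbot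
      have hcen := Cores.centralizer_pCore_le (p := H.r) Cores.isPSolvable_of_isSolvable hbot
      have hcore_le : (Cfsg.pCore H.r ↥Cb).map Cb.subtype ≤ zpowers b := by
        refine le_trans ?_ hOble
        haveI : (Cfsg.pCore H.r ↥Cb).Normal := Cfsg.pCore_normal H.r ↥Cb
        refine map_mono (Cores.le_pPrimeCore ?_)
        obtain ⟨j, hj⟩ := IsPGroup.iff_card.1 (Cores.pCore_isPGroup (p := H.r) (G := ↥Cb))
        rw [hj]
        exact ((Nat.coprime_primes H.hr Nat.prime_two).2 H.hr2).pow_left j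
      have htc : (⟨t, htb⟩ : ↥Cb) ∈ centralizer (Cfsg.pCore H.r ↥Cb : Set ↥Cb) := by
        refine mem_centralizer_iff.2 fun y hy => Subtype.ext ?_
        obtain ⟨i, hi⟩ := mem_zpowers_iff.1 (hcore_le ⟨y, hy, rfl⟩)
        have hi' : b ^ i = (y : G) := hi
        show (y : G) * t = t * (y : G)
        rw [← hi']
        exact (hbt.zpow_left i).eq
      have h := orderOf_dvd_natCard (⟨⟨t, htb⟩, hcen htc⟩ : ↥(Cfsg.pCore H.r ↥Cb))
      rw [Subgroup.orderOf_mk, Subgroup.orderOf_mk, hto] at h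
      obtain ⟨j, hj⟩ := IsPGroup.iff_card.1 (Cores.pCore_isPGroup (p := H.r) (G := ↥Cb))
      rw [hj] at h
      exact H.hr2 ((Nat.prime_dvd_prime_iff_eq Nat.prime_two H.hr).1
        (Nat.prime_two.dvd_of_dvd_pow h)).symm
    have hQsq : ∀ x ∈ Q, x * x = 1 := by
      intro x hx
      have hxC : x ∈ Cb := map_subtype_le _ hx
      have hco : (orderOf x).Coprime H.r := by
        have h := Subgroup.orderOf_dvd_natCard Q hx
        rw [hQdef, Subgroup.card_map_of_injective Cb.subtype_injective] at h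
        exact Nat.Coprime.coprime_dvd_left h Cores.coprime_card_pPrimeCore
      rw [← pow_two, ← orderOf_dvd_iff_pow_eq_one]
      rcases H.hord x with e | e | e | e | e
      · rw [e]; exact one_dvd _
      · rw [e]
      · rw [e] at hco; exact absurd hco (fun h => H.hr.ne_one ((Nat.coprime_self _).1 h))
      · rw [e] at hco
        exact absurd hco (fun h => H.hr.ne_one
          ((Nat.coprime_self _).1 (h.coprime_dvd_left (dvd_mul_left _ _))))
      · exact (H.not_commute_s e (Or.inr hbo)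
          (mem_centralizer_singleton_iff.1 hxC).symm).elim
    obtain ⟨⟨v, hvQ⟩, hv⟩ := Subgroup.ne_bot_iff_exists_ne_one.1 hQne
    have hv1 : v ≠ 1 := fun h => hv (Subtype.ext h)
    have hvo : orderOf v = 2 := orderOf_eq_two_of_sq (hQsq v hvQ) hv1
    obtain ⟨ρ, hρ⟩ := H.hconj v t (hvo.trans hto.symm)
    obtain ⟨hle, hct, h2⟩ := hnormal t ht ht1
    -- transport the local structure to `v`
    set Tv := (T₀).map ρ.symm.toMonoidHom with hTv
    have hTvmem : ∀ x, x ∈ Tv ↔ ρ x ∈ T₀ := by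
      intro x
      rw [hTv]
      constructor
      · rintro ⟨y, hy, rfl⟩
        show ρ (ρ.symm y) ∈ T₀
        rwa [ρ.apply_symm_apply]
      · intro h; exact ⟨ρ x, h, by simp⟩
    have hCv : ∀ x, Commute x v → ρ x ∈ centralizer ({t} : Set G) := fun x hx =>
      mem_centralizer_singleton_iff.2 (by rw [← hρ]; exact (hx.map ρ.toMonoidHom).eq)
    have hvT : ∀ x, Commute x v → x * x = 1 → x ∈ Tv := fun x hx hx2 =>
      (hTvmem x).2 (h2 _ (hCv x hx) (by rw [← map_mul, hx2, map_one]))
    have hQv : ∀ x ∈ Q, Commute x v := by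
      intro x hx
      have h3 := hQsq _ (mul_mem hx hvQ)
      have hxi : x⁻¹ = x := inv_eq_of_mul_eq_one_right (hQsq x hx)
      have hvi : v⁻¹ = v := inv_eq_of_mul_eq_one_right (hQsq v hvQ)
      show x * v = v * x
      conv_rhs => rw [← hvi, ← hxi, ← mul_inv_rev]
      exact (inv_eq_of_mul_eq_one_right h3).symm
    set D := centralizer (Q : Set G) with hD
    have hTvD : Tv ≤ D := fun x hx => mem_centralizer_iff.2 fun y hy => by
      have h := H.toLoc.comm ((hTvmem y).1 (hvT y (hQv y hy) (hQsq y hy))) ((hTvmem x).1 hx)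
      exact ρ.injective (by rw [map_mul, map_mul]; exact h.eq)
    have hDv : ∀ x ∈ D, Commute x v := fun x hx =>
      ((mem_centralizer_iff.1 hx v hvQ)).symm
    have hCbD : ∀ c ∈ Cb, ∀ x ∈ D, c * x * c⁻¹ ∈ D := by
      intro c hc x hx
      refine mem_centralizer_iff.2 fun y hy => ?_
      have hy' : c⁻¹ * y * c ∈ Q := by simpa using hQn c⁻¹ (inv_mem hc) y hy
      have h := mem_centralizer_iff.1 hx _ hy'
      calc y * (c * x * c⁻¹) = c * (c⁻¹ * y * c * x) * c⁻¹ := by group
        _ = c * (x * (c⁻¹ * y * c)) * c⁻¹ := by rw [h]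
        _ = c * x * c⁻¹ * y := by group
    have hCbN : Cb.map ρ.toMonoidHom ≤ normalizer (T₀ : Set G) := by
      rintro _ ⟨c, hc, rfl⟩
      have key : ∀ c ∈ Cb, ∀ x ∈ T₀, ρ c * x * (ρ c)⁻¹ ∈ T₀ := by
        intro c hc x hx
        have hxTv : ρ.symm x ∈ Tv := (hTvmem _).2 (by simpa using hx)
        have hd := hCbD c hc _ (hTvD hxTv)
        have h' := (hTvmem _).1 (hvT _ (hDv _ hd) (ρ.injective (by
          simp only [map_mul, map_inv, MulEquiv.apply_symm_apply, map_one]
          rw [conj_mul, H.toLoc.sq_eq_one hx]; group)))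
        simpa using h'
      exact mem_normalizer_iff.2 fun x => ⟨key c hc x, fun h => by
        simpa [mul_assoc, map_inv] using key c⁻¹ (inv_mem hc) _ h⟩
    refine hr2A (hr2Cb.trans ?_)
    have h1 := card_dvd_of_le hCbN
    rwa [Subgroup.card_map_of_injective (f := ρ.toMonoidHom) ρ.injective, hNcard] at h1
  -- each `b`-conjugate fixes a single involution, so `|T| - 1` is at most `p`
  have hrq : 2 * H.r + 2 ≤ q := by
    have h := K.le_card_sub_one haA hfree
    rw [hao] at h
    have h3 : H.r ∣ p - 1 := dvd_sub_one_of_normalizes hp H.hr hao hbo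
      (fun h => H.not_commute_s (hao.trans hps) (Or.inr hbo) h) (hnorm hbA)
    obtain ⟨j, hj⟩ := h3
    have hpodd := Nat.odd_iff.1 (hp.odd_of_ne_two hp2)
    have hrodd := Nat.odd_iff.1 (H.hr.odd_of_ne_two H.hr2)
    have := hp.two_le
    rcases j with _ | _ | j
    · omega
    · omega
    · have : H.r * (j + 1 + 1) = H.r * j + 2 * H.r := by ring
      omega
  have hfix : ∀ (t' b' : G), t' ∈ T₀ → t' ≠ 1 → b' ∈ K.A → orderOf b' = H.r → Commute b' t' →
      ∀ u ∈ T₀, u ≠ 1 → Commute b' u → u = t' := by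
    intro t' b' ht' ht'1 hb' hbo' hbt' u hu hu1 hub
    obtain ⟨σ, hσ⟩ := H.hconj b' b (hbo'.trans hbo.symm)
    -- the four-group spanned by `t'` and `u` would lie in `C(b')`
    by_contra hne
    set V := T₀ ⊓ centralizer ({b'} : Set G) with hV
    have h3 : 3 ≤ Nat.card V := by
      haveI := Fintype.ofFinite ↥V
      rw [Nat.card_eq_fintype_card]
      have htm : t' ∈ V := ⟨ht', mem_centralizer_singleton_iff.2 hbt'.symm.eq⟩
      have hum : u ∈ V := ⟨hu, mem_centralizer_singleton_iff.2 hub.symm.eq⟩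
      refine Fintype.two_lt_card_iff.2 ⟨1, ⟨t', htm⟩, ⟨u, hum⟩, ?_, ?_, ?_⟩
      · exact fun h => ht'1 (congrArg Subtype.val h).symm
      · exact fun h => hu1 (congrArg Subtype.val h).symm
      · exact fun h => hne (congrArg Subtype.val h).symm
    have h1 := H.card_le_fix K hbA hbo ht ht1 hbt (Q := V.map σ.toMonoidHom)
      ((H.toLoc.T.isPGroup'.to_le inf_le_left).map _)
      (by rw [← hσ, ← centralizer_map_aut]; exact map_mono inf_le_right)
    rw [Subgroup.card_map_of_injective (f := σ.toMonoidHom) σ.injective, ← hT₁, hT₁2] at h1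
    omega
  have hqp : q - 1 ≤ p := by
    -- send an involution to the stabiliser in `A`
    have hbP : IsPGroup H.r (zpowers (⟨b, hbA⟩ : ↥K.A)) := IsPGroup.of_card (n := 1)
      (by rw [Nat.card_zpowers, Subgroup.orderOf_mk, hbo, pow_one])
    have hz : ∀ v : {v : ↥T₀ // v ≠ 1}, ∃ P : Sylow H.r ↥K.A, ∃ x ∈ (P : Subgroup ↥K.A),
        x ≠ 1 ∧ Commute (x : G) (v.1 : G) := by
      intro v
      have hd : H.r ∣ Nat.card (Loc.Compl.stab K.A (v.1 : G)) := by
        rw [hstab _ v.1.2 fun h => v.2 (Subtype.ext h)]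
      obtain ⟨⟨x, hx⟩, hxo⟩ := exists_prime_orderOf_dvd_card' H.r hd
      rw [Subgroup.orderOf_mk] at hxo
      have hxp : IsPGroup H.r (zpowers (⟨x, (mem_inf.1 hx).1⟩ : ↥K.A)) := IsPGroup.of_card (n := 1)
        (by rw [Nat.card_zpowers, Subgroup.orderOf_mk, hxo, pow_one])
      obtain ⟨P, hP⟩ := hxp.exists_le_sylow
      exact ⟨P, _, hP (mem_zpowers _),
        fun h => H.hr.one_lt.ne (by rw [← hxo, show x = 1 from congrArg Subtype.val h, orderOf_one]),
        mem_centralizer_singleton_iff.1 (mem_inf.1 hx).2⟩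
    choose P x hxP hx1 hxc using hz
    haveI := Fintype.ofFinite ↥T₀
    have hcard : Nat.card {v : ↥T₀ // v ≠ 1} = q - 1 := by
      rw [Nat.card_eq_fintype_card, Fintype.card_subtype_compl, Fintype.card_subtype_eq,
        ← Nat.card_eq_fintype_card, ← hq]
    have hPcard : ∀ Q : Sylow H.r ↥K.A, Nat.card ↥(Q : Subgroup ↥K.A) = H.r := by
      intro Q
      obtain ⟨j, hj⟩ := IsPGroup.iff_card.1 Q.isPGroup'
      have h1 := Q.dvd_card_of_dvd_card (by rw [hA]; exact dvd_mul_left _ _)
      have h2 := card_subgroup_dvd_card (Q : Subgroup ↥K.A)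
      rw [hj] at h1 h2
      rw [hA] at h2
      rcases j with _ | _ | j
      · rw [pow_zero, Nat.dvd_one] at h1; exact absurd h1 H.hr.ne_one
      · rw [hj, zero_add, pow_one]
      · exact absurd (((pow_dvd_pow H.r (by omega : 2 ≤ j + 1 + 1)).trans h2).trans
          (dvd_mul_left _ q)) hr2A
    have hinj : Function.Injective P := by
      intro v w h
      haveI : Fact (Nat.card ↥(P v : Subgroup ↥K.A)).Prime := ⟨by rw [hPcard]; exact H.hr⟩
      have hgen : ∀ {y z : ↥K.A}, y ∈ (P v : Subgroup ↥K.A) → z ∈ (P v : Subgroup ↥K.A) →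
          z ≠ 1 → y ∈ zpowers z := by
        intro y z hy hz hz1
        obtain ⟨i, hi⟩ := mem_zpowers_iff.1 (mem_zpowers_of_prime_card (p := H.r) (hPcard (P v))
          (g := ⟨z, hz⟩) (g' := ⟨y, hy⟩) fun h => hz1 (congrArg Subtype.val h))
        exact mem_zpowers_iff.2 ⟨i, congrArg Subtype.val hi⟩
      obtain ⟨i, hi⟩ := mem_zpowers_iff.1 (hgen (hxP v) (h ▸ hxP w) (hx1 w))
      have hxw : Commute (x v : G) (w.1 : G) := by
        rw [← hi]; push_cast; exact (hxc w).zpow_left i
      have hxo : orderOf (x v : G) = H.r := by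
        rw [Subgroup.orderOf_coe, ← Subgroup.orderOf_mk (x v) (hxP v)]
        refine orderOf_eq_prime ?_ fun h => hx1 v (congrArg Subtype.val h)
        exact (congrArg (HPow.hPow _) (hPcard (P v)).symm).trans pow_card_eq_one'
      exact Subtype.ext (Subtype.ext (hfix _ _ v.1.2 (fun h => v.2 (Subtype.ext h)) (x v).2 hxo
        (hxc v) _ w.1.2 (fun h => w.2 (Subtype.ext h)) hxw).symm)
    rw [← hcard]
    refine (Nat.card_le_card_of_injective P hinj).trans ?_
    obtain ⟨Q₀⟩ := (inferInstance : Nonempty (Sylow H.r ↥K.A))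
    rw [Sylow.card_eq_index_normalizer Q₀]
    have h1 := Nat.le_of_dvd (Nat.pos_of_ne_zero Subgroup.index_ne_zero_of_finite)
      (Subgroup.index_dvd_of_le (le_normalizer (H := (Q₀ : Subgroup ↥K.A))))
    have h2 := (Q₀ : Subgroup ↥K.A).card_mul_index
    rw [hPcard, hA, mul_comm p] at h2
    have h3 := Nat.eq_of_mul_eq_mul_left H.hr.pos h2
    refine le_trans (Nat.le_of_dvd (Nat.pos_of_ne_zero Subgroup.index_ne_zero_of_finite)
      (Subgroup.index_dvd_of_le (le_normalizer (H := (Q₀ : Subgroup ↥K.A))))) h3.le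
  obtain ⟨hle, hct, h2⟩ := hnormal t ht ht1
  -- elements of order `r` in `C(t)`
  set C := centralizer ({t} : Set G) with hC
  have hbC : b ∈ C := mem_centralizer_singleton_iff.2 hbt.eq
  have hρ : numC t H.r * 2 ≤ q * (H.r - 1) := by
    haveI := Fintype.ofFinite (Sylow H.r C)
    have hPcard : ∀ Q : Sylow H.r C, Nat.card ↥(Q : Subgroup C) = H.r := by
      intro Q
      obtain ⟨j, hj⟩ := IsPGroup.iff_card.1 Q.isPGroup'
      have h1 := Q.dvd_card_of_dvd_card (by rw [hct]; exact dvd_mul_left _ _)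
      have h2 := card_subgroup_dvd_card (Q : Subgroup C)
      rw [hj] at h1 h2
      rw [hct] at h2
      rcases j with _ | _ | j
      · rw [pow_zero, Nat.dvd_one] at h1; exact absurd h1 H.hr.ne_one
      · rw [hj, zero_add, pow_one]
      · refine absurd (((pow_dvd_pow H.r (by omega : 2 ≤ j + 1 + 1)).trans h2).trans ?_) hr2A
        exact Nat.mul_dvd_mul_left q (dvd_mul_left _ _)
    have hbp : IsPGroup H.r (zpowers (⟨b, hbC⟩ : C)) := IsPGroup.of_card (n := 1)
      (by rw [Nat.card_zpowers, Subgroup.orderOf_mk, hbo, pow_one])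
    obtain ⟨P₀, hP₀⟩ := hbp.exists_le_sylow
    have hnsyl : Nat.card (Sylow H.r C) * 2 ≤ q := by
      rw [Sylow.card_eq_index_normalizer P₀]
      set N := normalizer ((P₀ : Subgroup C) : Set C) with hN
      have htN : (⟨t, mem_centralizer_singleton_iff.2 rfl⟩ : C) ∈ N := by
        have hce : (⟨t, mem_centralizer_singleton_iff.2 rfl⟩ : C) ∈ Subgroup.center C :=
          Subgroup.mem_center_iff.2 fun y => Subtype.ext (mem_centralizer_singleton_iff.1 y.2)
        exact Subgroup.center_le_normalizer ((P₀ : Subgroup C) : Set C) hce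
      have hbN : (⟨b, hbC⟩ : C) ∈ N := le_normalizer (hP₀ (mem_zpowers _))
      have h2' : 2 ∣ Nat.card N := by
        have := Subgroup.orderOf_dvd_natCard N htN
        rwa [Subgroup.orderOf_mk, hto] at this
      have hr' : H.r ∣ Nat.card N := by
        have := Subgroup.orderOf_dvd_natCard N hbN
        rwa [Subgroup.orderOf_mk, hbo] at this
      have h2r : 2 * H.r ∣ Nat.card N :=
        ((Nat.coprime_primes Nat.prime_two H.hr).2 H.hr2.symm).mul_dvd_of_dvd_of_dvd h2' hr'
      have hm := N.card_mul_index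
      have h5 : 2 * H.r * N.index ≤ q * H.r := by
        rw [← hct, ← hm]
        exact Nat.mul_le_mul_right _ (Nat.le_of_dvd Nat.card_pos h2r)
      refine Nat.le_of_mul_le_mul_right ?_ H.hr.pos
      calc N.index * 2 * H.r = 2 * H.r * N.index := by ring
        _ ≤ q * H.r := h5
    have hsig : numC t H.r ≤ Nat.card (Σ Q : Sylow H.r C, {z : ↥(Q : Subgroup C) // z ≠ 1}) := by
      have hQ : ∀ g : {g : G // orderOf g = H.r ∧ Commute t g}, ∃ Q : Sylow H.r C,
          (⟨g.1, mem_centralizer_singleton_iff.2 g.2.2.symm.eq⟩ : C) ∈ (Q : Subgroup C) := by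
        intro g
        have hgp : IsPGroup H.r (zpowers (⟨g.1, mem_centralizer_singleton_iff.2 g.2.2.symm.eq⟩ : C)) :=
          IsPGroup.of_card (n := 1) (by rw [Nat.card_zpowers, Subgroup.orderOf_mk, g.2.1, pow_one])
        obtain ⟨Q, hQ⟩ := hgp.exists_le_sylow
        exact ⟨Q, hQ (mem_zpowers _)⟩
      choose Q hQ using hQ
      refine Nat.card_le_card_of_injective (fun g => (⟨Q g, ⟨⟨_, hQ g⟩, fun h => by
        have h' : g.1 = 1 := congrArg (fun u : ↥(Q g : Subgroup C) => ((u : C) : G)) h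
        have := g.2.1
        rw [h', orderOf_one] at this
        exact H.hr.one_lt.ne this⟩⟩ : Σ Q : Sylow H.r C, {z : ↥(Q : Subgroup C) // z ≠ 1})) ?_
      intro g g' h
      exact Subtype.ext (congrArg
        (fun u : Σ Q : Sylow H.r C, {z : ↥(Q : Subgroup C) // z ≠ 1} =>
          (((u.2.1 : ↥(u.1 : Subgroup C)) : C) : G)) h)
    rw [card_sigma_const (H.r - 1) fun Q => ?_] at hsig
    · calc numC t H.r * 2 ≤ Nat.card (Sylow H.r C) * (H.r - 1) * 2 := Nat.mul_le_mul_right _ hsig
        _ = Nat.card (Sylow H.r C) * 2 * (H.r - 1) := by ring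
        _ ≤ q * (H.r - 1) := Nat.mul_le_mul_right _ hnsyl
    · haveI := Fintype.ofFinite ↥(Q : Subgroup C)
      rw [Nat.card_eq_fintype_card, Fintype.card_subtype_compl, Fintype.card_subtype_eq,
        ← Nat.card_eq_fintype_card, hPcard]
  -- involutions commuting with `b`
  have hi : H.r ≤ numC b 2 := by
    have hidx : H.r ∣ (C.subgroupOf Cb).index := by
      have hm := (C.subgroupOf Cb).card_mul_index
      have hc : Nat.card ↥(C.subgroupOf Cb) ∣ q * H.r := by
        rw [← hct, ← Subgroup.card_map_of_injective Cb.subtype_injective, subgroupOf_map_subtype]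
        exact card_dvd_of_le inf_le_left
      by_contra hn
      have h1 : H.r ^ 2 ∣ Nat.card ↥(C.subgroupOf Cb) :=
        (((H.hr.coprime_iff_not_dvd).2 hn).pow_left 2).dvd_of_dvd_mul_right (hm ▸ hr2Cb)
      exact hr2A ((h1.trans hc).trans (Nat.mul_dvd_mul_left q (dvd_mul_left _ _)))
    refine (Nat.le_of_dvd (Nat.pos_of_ne_zero Subgroup.index_ne_zero_of_finite) hidx).trans ?_
    let f : Cb ⧸ C.subgroupOf Cb → {g : G // orderOf g = 2 ∧ Commute b g} :=
      Quotient.lift (fun c : Cb => ⟨(c : G) * t * (c : G)⁻¹, by rw [H65.orderOf_conj', hto], by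
        have hcb : Commute (c : G) b := mem_centralizer_singleton_iff.1 c.2
        exact ((hcb.symm.mul_right hbt).mul_right hcb.symm.inv_right)⟩) fun c d hcd => by
          have hcd' := QuotientGroup.leftRel_apply.1 hcd
          rw [Subgroup.mem_subgroupOf, mem_centralizer_singleton_iff] at hcd'
          push_cast at hcd'
          refine Subtype.ext ?_
          show (c : G) * t * (c : G)⁻¹ = (d : G) * t * (d : G)⁻¹
          calc (c : G) * t * (c : G)⁻¹ = (c : G) * (t * ((c : G)⁻¹ * d)) * (d : G)⁻¹ := by group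
            _ = (c : G) * ((c : G)⁻¹ * d * t) * (d : G)⁻¹ := by rw [hcd']
            _ = _ := by group
    rw [Subgroup.index]
    refine Nat.card_le_card_of_injective f ?_
    intro c d h
    induction c using Quotient.inductionOn with
    | h c => ?_
    induction d using Quotient.inductionOn with
    | h d => ?_
    refine Quotient.sound (QuotientGroup.leftRel_apply.2 ?_)
    rw [Subgroup.mem_subgroupOf, mem_centralizer_singleton_iff]
    have h' : (c : G) * t * (c : G)⁻¹ = (d : G) * t * (d : G)⁻¹ := congrArg Subtype.val h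
    push_cast
    calc (c : G)⁻¹ * d * t = (c : G)⁻¹ * ((d : G) * t * (d : G)⁻¹) * d := by group
      _ = (c : G)⁻¹ * ((c : G) * t * (c : G)⁻¹) * d := by rw [h']
      _ = t * ((c : G)⁻¹ * d) := by group
  obtain ⟨hl, hr'⟩ := H.num_rel K hto hbo
  have hkey := num_two_mul K ht ht1
  rw [← hC, hct, hA, hstab t ht ht1, ← hq] at hkey
  set n2 := num G 2 with hn2
  set n2r := num G (2 * H.r) with hn2r
  set nr := num G H.r with hnr
  set g := Nat.card G with hg
  have hn2le : n2 * (q * H.r) ≤ g := by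
    have h' : n2 * (q * H.r) * p = g * (q - 1) := by
      refine Nat.eq_of_mul_eq_mul_right H.hr.pos ?_
      rw [← hkey]; ring
    have h'' : n2 * (q * H.r) * p ≤ g * p := h' ▸ Nat.mul_le_mul_left g hqp
    exact Nat.le_of_mul_le_mul_right h'' hp.pos
  have h2r : n2r * (2 * H.r) ≤ g * (H.r - 1) := by
    rw [hl]
    calc n2 * numC t H.r * (2 * H.r) = n2 * H.r * (numC t H.r * 2) := by ring
      _ ≤ n2 * H.r * (q * (H.r - 1)) := Nat.mul_le_mul_left _ hρ
      _ = n2 * (q * H.r) * (H.r - 1) := by ring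
      _ ≤ g * (H.r - 1) := Nat.mul_le_mul_right _ hn2le
  have hnr' : nr * H.r ≤ n2r := by rw [hr']; exact Nat.mul_le_mul_left _ hi
  have hS := H.two_mul_num_s_le
  have hG := H.card_eq
  rw [← hn2, ← hn2r, ← hnr, ← hg] at hG
  rw [← hg] at hS
  set ns := num G H.s
  have h3 : 3 ≤ H.r := by have := H.hr.two_le; have := H.hr2; omega
  obtain ⟨r', hr''⟩ : ∃ r', H.r = r' + 1 := ⟨H.r - 1, by omega⟩
  -- the group is too small
  have hfinal : g * q ≤ 2 * H.r ^ 2 * q + 2 * H.r * g := by
    rw [hr''] at h2r hnr' hn2le ⊢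
    simp only [Nat.add_sub_cancel] at h2r
    have e1 := Nat.mul_le_mul_left (2 * (r' + 1)) hn2le
    have e2 := Nat.mul_le_mul_left ((r' + 1) * q) h2r
    have e3 := Nat.mul_le_mul_left (2 * (r' + 1) * q) hnr'
    have e4 := Nat.mul_le_mul_left q h2r
    have e5 := Nat.mul_le_mul_left ((r' + 1) ^ 2 * q) hS
    have e6 : 2 * (r' + 1) ^ 2 * q * g = 2 * (r' + 1) ^ 2 * q * (1 + n2 + nr + n2r + ns) := by
      rw [hG]
    nlinarith
  have hgbig : q * (H.r ^ 2 * H.s) ∣ g := by
    have hqd : q ∣ g := card_subgroup_dvd_card _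
    obtain ⟨y, hy⟩ := H.hsx
    have hsd : H.s ∣ g := hy ▸ orderOf_dvd_natCard y
    obtain ⟨k, hk⟩ := IsPGroup.iff_card.1 H.toLoc.T.isPGroup'
    rw [← hq] at hk
    have hrs : (H.r ^ 2).Coprime H.s :=
      Nat.Coprime.pow_left 2 ((Nat.coprime_primes H.hr H.hs).2 H.hrs)
    have hco : q.Coprime (H.r ^ 2 * H.s) := by
      rw [hk]
      refine Nat.Coprime.pow_left k (Nat.Coprime.mul_right (Nat.Coprime.pow_right 2 ?_) ?_)
      · exact (Nat.coprime_primes Nat.prime_two H.hr).2 H.hr2.symm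
      · exact (Nat.coprime_primes Nat.prime_two H.hs).2 H.hs2.symm
    exact hco.mul_dvd_of_dvd_of_dvd hqd (hrs.mul_dvd_of_dvd_of_dvd hr2G hsd)
  have hgle := Nat.le_of_dvd Nat.card_pos hgbig
  have hs2 := H.hs.two_le
  have h4 : g * (2 * H.r + 2) ≤ g * q := Nat.mul_le_mul_left _ hrq
  have hpos : 0 < q * H.r ^ 2 := by positivity
  have h5 : q * H.r ^ 2 * 2 ≤ g := le_trans (by
    calc q * H.r ^ 2 * 2 ≤ q * H.r ^ 2 * H.s := Nat.mul_le_mul_left _ hs2
      _ = q * (H.r ^ 2 * H.s) := by ring) hgle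
  nlinarith

end Two

end Cfsg.Agent.H76.FiveOrbits
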