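import Cfsg.Agent.H76.FiveOrbits.Local

/-!
Counting the elements of given orders.
-/

set_option autoImplicit false
set_option linter.style.haveILetI false
set_option linter.unusedSectionVars false

namespace Cfsg.Agent.H76.FiveOrbits

open Subgroup
open scoped Pointwise

variable {G : Type*} [Group G]

/-- The number of elements of order `k`. -/
noncomputable def num (G : Type*) [Group G] (k : ℕ) : ℕ := Nat.card {g : G // orderOf g = k}

/-- The number of elements of order `k` commuting with `x`. -/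
noncomputable def numC (x : G) (k : ℕ) : ℕ :=
  Nat.card {g : G // orderOf g = k ∧ Commute x g}

theorem numC_aut (σ : MulAut G) (x : G) (k : ℕ) : numC (σ x) k = numC x k := by
  refine Nat.card_congr ((Equiv.subtypeEquiv σ.toEquiv fun g => ?_).symm)
  simp only [MulEquiv.toEquiv_eq_coe, EquivLike.coe_coe, MulEquiv.orderOf_eq]
  refine and_congr_right fun _ => ⟨fun h => h.map σ.toMonoidHom, fun h => ?_⟩
  have h' : σ (x * g) = σ (g * x) := by rw [map_mul, map_mul]; exact h.eq
  exact σ.injective h'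

variable [Finite G]

theorem num_pos {k : ℕ} {g : G} (hg : orderOf g = k) : 0 < num G k :=
  Nat.card_pos_iff.2 ⟨⟨⟨g, hg⟩⟩, inferInstance⟩

theorem numC_pos {k : ℕ} {x g : G} (hg : orderOf g = k) (hc : Commute x g) : 0 < numC x k :=
  Nat.card_pos_iff.2 ⟨⟨⟨g, hg, hc⟩⟩, inferInstance⟩

theorem card_partition (ks : Finset ℕ) (h : ∀ g : G, orderOf g ∈ ks) :
    Nat.card G = ∑ k ∈ ks, num G k := by
  classical
  haveI := Fintype.ofFinite G
  rw [Nat.card_eq_fintype_card, ← Finset.card_univ,
    Finset.card_eq_sum_card_fiberwise (f := fun g : G => orderOf g) (t := ks) fun g _ => h g]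
  refine Finset.sum_congr rfl fun k _ => ?_
  rw [num, Nat.card_eq_fintype_card, Fintype.card_subtype]

theorem card_sigma_const {α : Type*} [Finite α] {β : α → Type*} [∀ a, Finite (β a)] (c : ℕ)
    (h : ∀ a, Nat.card (β a) = c) : Nat.card (Σ a, β a) = Nat.card α * c := by
  classical
  haveI := Fintype.ofFinite α
  haveI := fun a => Fintype.ofFinite (β a)
  rw [Nat.card_sigma, Finset.sum_congr rfl fun a _ => h a, Finset.sum_const, Finset.card_univ,
    smul_eq_mul, Nat.card_eq_fintype_card]

/-- Elements of order `2 * r` are commuting pairs of orders `2` and `r`. -/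
def pairEquiv {r : ℕ} (hr : r.Prime) (hr2 : r ≠ 2) :
    {g : G // orderOf g = 2 * r} ≃
      Σ t : {t : G // orderOf t = 2}, {x : G // orderOf x = r ∧ Commute (t : G) x} where
  toFun g := ⟨⟨g.1 ^ r, by
      rw [orderOf_pow' _ hr.ne_zero, g.2, Nat.gcd_eq_right (dvd_mul_left r 2),
        Nat.mul_div_cancel _ hr.pos]⟩, ⟨g.1 ^ (r + 1), by
      obtain ⟨k, hk⟩ := hr.odd_of_ne_two hr2
      have hgcd : Nat.gcd (2 * r) (r + 1) = 2 := by
        rw [show r + 1 = 2 * (k + 1) by omega, Nat.gcd_mul_left]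
        have h1 : Nat.gcd r (k + 1) = 1 := (Nat.Prime.coprime_iff_not_dvd hr).2
          (Nat.not_dvd_of_pos_of_lt k.succ_pos (by have := hr.two_le; omega))
        rw [h1]
      rw [orderOf_pow' _ r.succ_ne_zero, g.2, hgcd, Nat.mul_div_cancel_left _ two_pos],
      ((Commute.refl g.1).pow_pow r (r + 1))⟩⟩
  invFun p := ⟨(p.1 : G) * (p.2 : G), by
    rw [p.2.2.2.orderOf_mul_eq_mul_orderOf_of_coprime, p.1.2, p.2.2.1]
    rw [p.1.2, p.2.2.1]
    exact Nat.coprime_two_left.2 (hr.odd_of_ne_two hr2)⟩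
  left_inv g := by
    apply Subtype.ext
    show g.1 ^ r * g.1 ^ (r + 1) = g.1
    have hg : g.1 ^ (2 * r) = 1 := by
      have := pow_orderOf_eq_one g.1
      rwa [g.2] at this
    rw [← pow_add, show r + (r + 1) = 2 * r + 1 by omega, pow_succ, hg, one_mul]
  right_inv p := by
    obtain ⟨⟨t, ht⟩, x, hx, hc⟩ := p
    obtain ⟨k, hk⟩ := hr.odd_of_ne_two hr2
    have ht2 : t ^ 2 = 1 := by rw [← ht]; exact pow_orderOf_eq_one t
    have hxr : x ^ r = 1 := by rw [← hx]; exact pow_orderOf_eq_one x
    have h1 : (t * x) ^ r = t := by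
      rw [hc.mul_pow, hxr, mul_one, hk, pow_succ, pow_mul, ht2, one_pow, one_mul]
    have h2 : (t * x) ^ (r + 1) = x := by
      rw [pow_succ, h1, ← mul_assoc, ← pow_two, ht2, one_mul]
    refine Sigma.subtype_ext (Subtype.ext h1) h2

theorem num_two_mul_r_eq_left {r : ℕ} (hr : r.Prime) (hr2 : r ≠ 2) {c : ℕ}
    (h : ∀ t : G, orderOf t = 2 → numC t r = c) : num G (2 * r) = num G 2 * c := by
  rw [num, Nat.card_congr (pairEquiv hr hr2)]
  exact card_sigma_const c fun t => h t.1 t.2

theorem num_two_mul_r_eq_right {r : ℕ} (hr : r.Prime) (hr2 : r ≠ 2) {c : ℕ}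
    (h : ∀ x : G, orderOf x = r → numC x 2 = c) : num G (2 * r) = num G r * c := by
  rw [num, Nat.card_congr (pairEquiv hr hr2)]
  let e : (Σ t : {t : G // orderOf t = 2}, {x : G // orderOf x = r ∧ Commute (t : G) x}) ≃
      Σ x : {x : G // orderOf x = r}, {t : G // orderOf t = 2 ∧ Commute (x : G) t} :=
    { toFun := fun p => ⟨⟨p.2.1, p.2.2.1⟩, ⟨p.1.1, p.1.2, p.2.2.2.symm⟩⟩
      invFun := fun p => ⟨⟨p.2.1, p.2.2.1⟩, ⟨p.1.1, p.1.2, p.2.2.2.symm⟩⟩
      left_inv := fun p => rfl
      right_inv := fun p => rfl }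
  rw [Nat.card_congr e]
  exact card_sigma_const c fun t => h t.1 t.2

variable [IsSimpleGroup G] {L : Loc G} (K : L.Compl)

omit [IsSimpleGroup G] in
theorem orderOf_eq_two_of_sq {v : G} (h : v * v = 1) (h1 : v ≠ 1) : orderOf v = 2 :=
  orderOf_eq_prime (by rw [pow_two]; exact h) h1

include K

/-- The involution count. -/
theorem num_two_mul {t : G} (ht : t ∈ (L.T : Subgroup G)) (ht1 : t ≠ 1) :
    num G 2 * Nat.card (centralizer ({t} : Set G)) * Nat.card K.A =
      Nat.card G * (Nat.card ↥(L.T : Subgroup G) - 1) * Nat.card (Loc.Compl.stab K.A t) := by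
  classical
  haveI : Fact (Nat.Prime 2) := ⟨Nat.prime_two⟩
  haveI : Finite (Sylow 2 G) := inferInstance
  haveI := Fintype.ofFinite G
  haveI := Fintype.ofFinite (Sylow 2 G)
  have hsq : ∀ (P : Sylow 2 G), ∀ v ∈ (P : Subgroup G), v * v = 1 := by
    intro P v hv
    obtain ⟨g, hg⟩ := MulAction.exists_smul_eq G L.T P
    rw [← hg, Sylow.coe_subgroup_smul] at hv
    obtain ⟨w, hw, rfl⟩ := hv
    show _ * _ = (1 : G)
    erw [← map_mul, L.sq_eq_one hw, map_one]
  -- Sylow subgroups containing a given involution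
  have key : ∀ u : G, orderOf u = 2 →
      Nat.card {P : Sylow 2 G // u ∈ (P : Subgroup G)} = Nat.card {P : Sylow 2 G // t ∈ (P : Subgroup G)} := by
    intro u hu
    obtain ⟨σ, hσ⟩ := L.hconj t u (L.invol ht ht1) hu
    let e : Sylow 2 G ≃ Sylow 2 G :=
      { toFun := fun P => Sylow.ofCard ((P : Subgroup G).map σ.toMonoidHom)
          (by rw [Subgroup.card_map_of_injective σ.injective]; exact P.card_eq_multiplicity)
        invFun := fun P => Sylow.ofCard ((P : Subgroup G).map σ.symm.toMonoidHom)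
          (by rw [Subgroup.card_map_of_injective σ.symm.injective]; exact P.card_eq_multiplicity)
        left_inv := fun P => Sylow.ext (by
          show ((P : Subgroup G).map σ.toMonoidHom).map σ.symm.toMonoidHom = _
          rw [Subgroup.map_map]
          simp)
        right_inv := fun P => Sylow.ext (by
          show ((P : Subgroup G).map σ.symm.toMonoidHom).map σ.toMonoidHom = _
          rw [Subgroup.map_map]
          simp) }
    refine (Nat.card_congr (Equiv.subtypeEquiv e fun P => ?_)).symm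
    rw [← hσ]
    exact (Subgroup.mem_map_iff_mem (f := σ.toMonoidHom) σ.injective).symm
  have hswap : num G 2 * Nat.card {P : Sylow 2 G // t ∈ (P : Subgroup G)} =
      Nat.card (Sylow 2 G) * (Nat.card ↥(L.T : Subgroup G) - 1) := by
    let e : (Σ u : {u : G // orderOf u = 2}, {P : Sylow 2 G // (u : G) ∈ (P : Subgroup G)}) ≃
        Σ P : Sylow 2 G, {v : ↥(P : Subgroup G) // v ≠ 1} :=
      { toFun := fun p => ⟨p.2.1, ⟨p.1.1, p.2.2⟩, fun h => by
          have h' : p.1.1 = (1 : G) := congrArg Subtype.val h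
          have := p.1.2
          rw [h', orderOf_one] at this; exact absurd this (by norm_num)⟩
        invFun := fun p => ⟨⟨p.2.1.1, orderOf_eq_two_of_sq (hsq p.1 _ p.2.1.2)
          fun h => p.2.2 (Subtype.ext h)⟩, ⟨p.1, p.2.1.2⟩⟩
        left_inv := fun p => rfl
        right_inv := fun p => rfl }
    have h := Nat.card_congr e
    rw [card_sigma_const (α := {u : G // orderOf u = 2})
        (Nat.card {P : Sylow 2 G // t ∈ (P : Subgroup G)}) fun u => key u.1 u.2,
      card_sigma_const (α := Sylow 2 G) (Nat.card ↥(L.T : Subgroup G) - 1) fun P => ?_] at h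
    · exact h
    · rw [Nat.card_eq_fintype_card, Fintype.card_subtype_compl, Fintype.card_subtype_eq,
        ← Nat.card_eq_fintype_card, P.card_eq_multiplicity, L.T.card_eq_multiplicity]
  -- Sylow subgroups containing `t` are those of the centraliser
  set C := centralizer ({t} : Set G) with hC
  have hcomm : ∀ P : Sylow 2 G, t ∈ (P : Subgroup G) → (P : Subgroup G) ≤ C := by
    intro P hP x hx
    rw [hC, mem_centralizer_singleton_iff]
    have hi : ∀ z ∈ (P : Subgroup G), z⁻¹ = z := fun z hz =>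
      inv_eq_of_mul_eq_one_right (hsq P z hz)
    conv_rhs => rw [← hi t hP, ← hi x hx, ← mul_inv_rev]
    exact (inv_eq_of_mul_eq_one_right (hsq P _ (mul_mem hx hP))).symm
  have hTC : (L.T : Subgroup G) ≤ C := hcomm L.T ht
  let S₀ := L.T.subtype hTC
  have hS₀card : Nat.card ↥(S₀ : Subgroup C) = Nat.card ↥(L.T : Subgroup G) :=
    Nat.card_congr (Subgroup.subgroupOfEquivOfLe hTC).toEquiv
  have hsyl : Nat.card {P : Sylow 2 G // t ∈ (P : Subgroup G)} = Nat.card (Sylow 2 C) := by
    refine Nat.card_congr (Equiv.ofBijective (fun P => P.1.subtype (hcomm P.1 P.2)) ⟨?_, ?_⟩)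
    · intro P Q h
      exact Subtype.ext (Sylow.subtype_injective h)
    · intro Q
      have hQ : Nat.card ↥((Q : Subgroup C).map C.subtype) = 2 ^ (Nat.card G).factorization 2 := by
        rw [Subgroup.card_map_of_injective C.subtype_injective, ← L.T.card_eq_multiplicity,
          ← hS₀card, Q.card_eq_multiplicity, S₀.card_eq_multiplicity]
      let P := Sylow.ofCard ((Q : Subgroup C).map C.subtype) hQ
      have htP : t ∈ (P : Subgroup G) := by
        refine ⟨⟨t, mem_centralizer_singleton_iff.2 rfl⟩, ?_, rfl⟩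
        obtain ⟨g, hg⟩ := MulAction.exists_smul_eq C S₀ Q
        rw [← hg, SetLike.mem_coe, Sylow.coe_subgroup_smul]
        refine ⟨⟨t, mem_centralizer_singleton_iff.2 rfl⟩, ht, Subtype.ext ?_⟩
        show (g : G) * t * (g : G)⁻¹ = t
        rw [mem_centralizer_singleton_iff.1 g.2, mul_inv_cancel_right]
      refine ⟨⟨P, htP⟩, Sylow.ext ?_⟩
      show ((Q : Subgroup C).map C.subtype).subgroupOf C = _
      exact Subgroup.comap_map_eq_self_of_injective C.subtype_injective _
  -- indices
  set N := normalizer ((L.T : Subgroup G) : Set G) with hN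
  have hNcard : Nat.card N = Nat.card ↥(L.T : Subgroup G) * Nat.card K.A := by
    rw [← K.card_sup le_rfl, K.hsup]
  have hNC : Nat.card ↥(N ⊓ C) = Nat.card ↥(L.T : Subgroup G) * Nat.card (Loc.Compl.stab K.A t) := by
    rw [← K.card_sup (F := Loc.Compl.stab K.A t) inf_le_left, ← K.sup_inf_centralizer le_rfl ht,
      K.hsup]
  have h1 : Nat.card (Sylow 2 C) * Nat.card ↥(N ⊓ C) = Nat.card C := by
    rw [Sylow.card_eq_index_normalizer S₀]
    show (normalizer (((L.T : Subgroup G).subgroupOf C : Subgroup C) : Set C)).index * _ = _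
    rw [← Subgroup.subgroupOf_normalizer_eq hTC,
      ← Nat.card_congr (Subgroup.subgroupOfEquivOfLe (inf_le_right : N ⊓ C ≤ C)).toEquiv,
      Subgroup.inf_subgroupOf_right, mul_comm, Subgroup.card_mul_index]
  have h2 : Nat.card (Sylow 2 G) * Nat.card N = Nat.card G := by
    rw [Sylow.card_eq_index_normalizer L.T, mul_comm]; exact Subgroup.card_mul_index N
  rw [hsyl] at hswap
  rw [hNcard] at h2
  rw [hNC] at h1
  rw [← h1, ← h2]
  generalize num G 2 = a, Nat.card (Sylow 2 C) = b, Nat.card ↥(L.T : Subgroup G) = q,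
    Nat.card (Loc.Compl.stab K.A t) = σ', Nat.card (Sylow 2 G) = n, Nat.card ↥K.A = m at *
  calc a * (b * (q * σ')) * m = (a * b) * (q * σ' * m) := by ring
    _ = n * (q - 1) * (q * σ' * m) := by rw [hswap]
    _ = n * (q * m) * (q - 1) * σ' := by ring

end Cfsg.Agent.H76.FiveOrbits
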