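import Cfsg.Agent.H76.FiveOrbits.Semiregular
import Cfsg.Agent.H68.SylowCentralizer
import Cfsg.Agent.H74.EPPO
import Cfsg.Agent.H31.FFPlane
import Cfsg.Agent.Cores.PCore
import Cfsg.Agent.S0205

/-!
The normaliser of a Sylow 2-subgroup of a simple group with very few element orders.
-/

set_option autoImplicit false
set_option linter.style.haveILetI false
set_option linter.unusedSectionVars false

namespace Cfsg.Agent.H76.FiveOrbits

open Subgroup
open scoped Pointwise

variable {G : Type*} [Group G]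

/-- The hypotheses shared by both cases: a simple group whose element orders are primes, `1` and
possibly `2 * r`, with self-centralising Sylow 2-subgroups and involutions conjugate under
automorphisms. -/
structure Loc (G : Type*) [Group G] where
  /-- the exceptional odd prime -/
  r : ℕ
  hr : r.Prime
  hr2 : r ≠ 2
  hord : ∀ g : G, orderOf g = 1 ∨ (orderOf g).Prime ∨ orderOf g = 2 * r
  hconj : ∀ s t : G, orderOf s = 2 → orderOf t = 2 → ∃ σ : MulAut G, σ s = t
  /-- a Sylow 2-subgroup -/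
  T : Sylow 2 G
  hCT : Subgroup.centralizer ((T : Subgroup G) : Set G) ≤ (T : Subgroup G)
  heven : 2 ∣ Nat.card G
  hna : ¬ IsMulCommutative G

namespace Loc

variable [Finite G] [IsSimpleGroup G] (L : Loc G)

include L

theorem odd_prime {g : G} (hg : Odd (orderOf g)) (hg1 : g ≠ 1) : (orderOf g).Prime := by
  rcases L.hord g with h | h | h
  · exact absurd (orderOf_eq_one_iff.1 h) hg1
  · exact h
  · exact absurd (h ▸ hg) (Nat.not_odd_iff_even.2 (even_two_mul _))

theorem sq_eq_one {x : G} (hx : x ∈ (L.T : Subgroup G)) : x * x = 1 := by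
  obtain ⟨k, hk⟩ := IsPGroup.iff_orderOf.1 L.T.isPGroup' ⟨x, hx⟩
  rw [orderOf_mk] at hk
  rw [← pow_two, ← orderOf_dvd_iff_pow_eq_one]
  rcases L.hord x with h | h | h
  · rw [h]; exact one_dvd _
  · rw [hk] at h ⊢
    rw [(Nat.Prime.pow_eq_iff h).1 rfl |>.2, pow_one]
  · exfalso
    rw [h] at hk
    have hrd : L.r ∣ 2 ^ k := ⟨2, by rw [← hk, mul_comm]⟩
    exact L.hr2 ((Nat.prime_dvd_prime_iff_eq L.hr Nat.prime_two).1 (L.hr.dvd_of_dvd_pow hrd))

theorem comm {x y : G} (hx : x ∈ (L.T : Subgroup G)) (hy : y ∈ (L.T : Subgroup G)) :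
    Commute x y := by
  have hxy := L.sq_eq_one (mul_mem hx hy)
  have hi : ∀ z ∈ (L.T : Subgroup G), z⁻¹ = z := fun z hz =>
    inv_eq_of_mul_eq_one_right (L.sq_eq_one hz)
  show x * y = y * x
  conv_rhs => rw [← hi y hy, ← hi x hx, ← mul_inv_rev]
  exact (inv_eq_of_mul_eq_one_right hxy).symm

theorem invol {t : G} (ht : t ∈ (L.T : Subgroup G)) (h1 : t ≠ 1) : orderOf t = 2 :=
  orderOf_eq_prime (by rw [pow_two]; exact L.sq_eq_one ht) h1

theorem T_ne_bot : (L.T : Subgroup G) ≠ ⊥ := L.T.ne_bot_of_dvd_card L.heven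

theorem T_le_centralizer {t : G} (ht : t ∈ (L.T : Subgroup G)) :
    (L.T : Subgroup G) ≤ centralizer ({t} : Set G) := fun _ hx =>
  mem_centralizer_singleton_iff.2 (L.comm hx ht).eq

/-- Automorphisms fixing `T` are transitive on its involutions. -/
theorem exists_aut {s t : G} (hs : s ∈ (L.T : Subgroup G)) (hs1 : s ≠ 1)
    (ht : t ∈ (L.T : Subgroup G)) (ht1 : t ≠ 1) :
    ∃ σ : MulAut G, (L.T : Subgroup G).map σ.toMonoidHom = (L.T : Subgroup G) ∧ σ s = t := by
  obtain ⟨σ, hσ⟩ := L.hconj s t (L.invol hs hs1) (L.invol ht ht1)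
  set T' := (L.T : Subgroup G).map σ.toMonoidHom with hT'
  have hle' : T' ≤ centralizer ({t} : Set G) := by
    rintro _ ⟨x, hx, rfl⟩
    rw [mem_centralizer_singleton_iff, ← hσ]
    show σ x * σ s = σ s * σ x
    rw [← map_mul, (L.comm hx hs).eq, map_mul]
  haveI : Fact (Nat.Prime 2) := ⟨Nat.prime_two⟩
  let P' : Sylow 2 G := Sylow.ofCard T' (by
    rw [hT', Subgroup.card_map_of_injective σ.injective]
    exact L.T.card_eq_multiplicity)
  have hP' : (P' : Subgroup G) = T' := rfl
  obtain ⟨c, hc⟩ := MulAction.exists_smul_eq (centralizer ({t} : Set G))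
    (P'.subtype hle') (L.T.subtype (L.T_le_centralizer ht))
  rw [Sylow.smul_subtype (hP := hle')] at hc
  have hc' : (c : G) • P' = L.T := Sylow.subtype_injective hc
  refine ⟨σ.trans (MulAut.conj (c : G)), ?_, ?_⟩
  · conv_rhs => rw [← hc', Sylow.coe_subgroup_smul, hP', Subgroup.pointwise_smul_def, hT']
    erw [Subgroup.map_map]
    rfl
  · show (c : G) * σ s * (c : G)⁻¹ = t
    rw [hσ, mem_centralizer_singleton_iff.1 c.2, mul_inv_cancel_right]

theorem exists_compl : ∃ A : Subgroup G, A ≤ normalizer ((L.T : Subgroup G) : Set G) ∧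
    (L.T : Subgroup G) ⊓ A = ⊥ ∧ (L.T : Subgroup G) ⊔ A = normalizer ((L.T : Subgroup G) : Set G) ∧
    Odd (Nat.card A) := by
  haveI : Fact (Nat.Prime 2) := ⟨Nat.prime_two⟩
  set N := normalizer ((L.T : Subgroup G) : Set G) with hN
  let S := L.T.subtype (Subgroup.le_normalizer)
  obtain ⟨B, hB⟩ := Subgroup.exists_right_complement'_of_coprime
    (N := (L.T : Subgroup G).subgroupOf N) (S.card_coprime_index)
  refine ⟨B.map N.subtype, map_subtype_le B, ?_, ?_, ?_⟩
  · rw [eq_bot_iff]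
    rintro x ⟨hxT, b, hb, rfl⟩
    have : b ∈ (L.T : Subgroup G).subgroupOf N ⊓ B := ⟨mem_subgroupOf.2 hxT, hb⟩
    rw [hB.disjoint.eq_bot, mem_bot] at this
    rw [this]; simp
  · conv_rhs => rw [← range_subtype N, MonoidHom.range_eq_map, ← hB.sup_eq_top, Subgroup.map_sup,
      subgroupOf_map_subtype, inf_of_le_left (Subgroup.le_normalizer)]
  · rw [Subgroup.card_map_of_injective N.subtype_injective, ← hB.symm.index_eq_card,
      ← Nat.not_even_iff_odd, even_iff_two_dvd]
    exact S.not_dvd_index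

end Loc

/-- A complement of the Sylow 2-subgroup in its normaliser. -/
structure Loc.Compl (L : Loc G) where
  A : Subgroup G
  hAN : A ≤ normalizer ((L.T : Subgroup G) : Set G)
  hinf : (L.T : Subgroup G) ⊓ A = ⊥
  hsup : (L.T : Subgroup G) ⊔ A = normalizer ((L.T : Subgroup G) : Set G)
  hodd : Odd (Nat.card A)

namespace Loc.Compl

variable [Finite G] [IsSimpleGroup G] {L : Loc G} (K : L.Compl)

/-- The subgroup fixing `t`. -/
abbrev stab (F : Subgroup G) (t : G) : Subgroup G := F ⊓ centralizer ({t} : Set G)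

include K

theorem card_sup {F : Subgroup G} (hF : F ≤ K.A) :
    Nat.card ↥((L.T : Subgroup G) ⊔ F) = Nat.card ↥(L.T : Subgroup G) * Nat.card F := by
  have h := H31.FF.card_sup_mul_card_inf (A := (L.T : Subgroup G)) (B := F) (hF.trans K.hAN)
  rwa [show (L.T : Subgroup G) ⊓ F = ⊥ from le_bot_iff.1 (K.hinf ▸ inf_le_inf_left _ hF),
    card_bot, mul_one] at h

theorem sup_inf_centralizer {F : Subgroup G} (hF : F ≤ K.A) {t : G}
    (ht : t ∈ (L.T : Subgroup G)) :
    ((L.T : Subgroup G) ⊔ F) ⊓ centralizer ({t} : Set G) = (L.T : Subgroup G) ⊔ stab F t := by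
  refine le_antisymm ?_ (le_inf (sup_le le_sup_left (inf_le_left.trans le_sup_right))
    (sup_le (L.T_le_centralizer ht) inf_le_right))
  intro x hmem
  obtain ⟨hx, hxt⟩ := mem_inf.1 hmem
  have hn : F ≤ normalizer ((L.T : Subgroup G) : Set G) := hF.trans K.hAN
  rw [← SetLike.mem_coe, coe_mul_of_right_le_normalizer_left _ _ hn] at hx
  obtain ⟨a, ha, b, hb, rfl⟩ := hx
  refine Subgroup.mul_mem_sup ha ⟨hb, ?_⟩
  have := mul_mem (inv_mem (L.T_le_centralizer ht ha)) hxt
  rwa [inv_mul_cancel_left] at this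

/-- Stabilisers in an automorphism-invariant subgroup have constant order. -/
theorem card_stab {F : Subgroup G} (hF : F ≤ K.A)
    (hinv : ∀ σ : MulAut G, (L.T : Subgroup G).map σ.toMonoidHom = (L.T : Subgroup G) →
      ((L.T : Subgroup G) ⊔ F).map σ.toMonoidHom = (L.T : Subgroup G) ⊔ F)
    {s t : G} (hs : s ∈ (L.T : Subgroup G)) (hs1 : s ≠ 1) (ht : t ∈ (L.T : Subgroup G))
    (ht1 : t ≠ 1) : Nat.card (stab F s) = Nat.card (stab F t) := by
  obtain ⟨σ, hσT, hσ⟩ := L.exists_aut hs hs1 ht ht1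
  have hmap : (((L.T : Subgroup G) ⊔ F) ⊓ centralizer ({s} : Set G)).map σ.toMonoidHom =
      ((L.T : Subgroup G) ⊔ F) ⊓ centralizer ({t} : Set G) := by
    have hc : (centralizer ({s} : Set G)).map σ.toMonoidHom = centralizer ({t} : Set G) := by
      ext x
      simp only [Subgroup.mem_map, MulEquiv.coe_toMonoidHom, mem_centralizer_singleton_iff]
      constructor
      · rintro ⟨y, hy, rfl⟩
        rw [← hσ, ← map_mul, hy, map_mul]
      · intro hx
        refine ⟨σ.symm x, σ.injective ?_, by simp⟩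
        rw [map_mul, map_mul, MulEquiv.apply_symm_apply, hσ, hx]
    rw [Subgroup.map_inf _ _ _ σ.injective, hinv σ hσT, hc]
  have h : Nat.card ↥(((L.T : Subgroup G) ⊔ F) ⊓ centralizer ({s} : Set G)) =
      Nat.card ↥(((L.T : Subgroup G) ⊔ F) ⊓ centralizer ({t} : Set G)) := by
    rw [← hmap]; exact (Subgroup.card_map_of_injective (f := σ.toMonoidHom) σ.injective).symm
  rw [K.sup_inf_centralizer hF hs, K.sup_inf_centralizer hF ht,
    K.card_sup (inf_le_left.trans hF), K.card_sup (inf_le_left.trans hF)] at h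
  exact Nat.eq_of_mul_eq_mul_left Nat.card_pos h

theorem inv_A (σ : MulAut G) (hσ : (L.T : Subgroup G).map σ.toMonoidHom = (L.T : Subgroup G)) :
    ((L.T : Subgroup G) ⊔ K.A).map σ.toMonoidHom = (L.T : Subgroup G) ⊔ K.A := by
  rw [K.hsup, Subgroup.map_equiv_normalizer_eq, hσ]

/-- The image of the `m`-core of the complement. -/
abbrev core (m : ℕ) : Subgroup G := (Cfsg.pCore m ↥K.A).map K.A.subtype

theorem inv_core (m : ℕ) [Fact m.Prime] (σ : MulAut G)
    (hσ : (L.T : Subgroup G).map σ.toMonoidHom = (L.T : Subgroup G)) :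
    ((L.T : Subgroup G) ⊔ K.core m).map σ.toMonoidHom = (L.T : Subgroup G) ⊔ K.core m := by
  set F := K.core m with hFdef
  have hF : F ≤ K.A := map_subtype_le _
  set N := normalizer ((L.T : Subgroup G) : Set G) with hN
  set Y := ((L.T : Subgroup G) ⊔ F).map σ.toMonoidHom with hY
  have hTY : (L.T : Subgroup G) ≤ Y := hσ ▸ map_mono le_sup_left
  have hYN : Y ≤ N := by
    rw [hN, ← K.hsup, ← K.inv_A σ hσ]; exact map_mono (sup_le_sup_left hF _)
  have hYeq : Y = (L.T : Subgroup G) ⊔ (Y ⊓ K.A) := by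
    refine le_antisymm (fun x hx => ?_) (sup_le hTY inf_le_left)
    have hxN : x ∈ (L.T : Subgroup G) ⊔ K.A := by rw [K.hsup]; exact hYN hx
    rw [← SetLike.mem_coe, coe_mul_of_right_le_normalizer_left _ _ K.hAN] at hxN
    obtain ⟨a, ha, b, hb, rfl⟩ := hxN
    refine Subgroup.mul_mem_sup ha ⟨?_, hb⟩
    have := mul_mem (inv_mem (hTY ha)) hx
    rwa [inv_mul_cancel_left] at this
  have hnormTF : N ≤ normalizer (((L.T : Subgroup G) ⊔ F : Subgroup G) : Set G) := by
    rw [hN, ← K.hsup]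
    refine sup_le (le_sup_left.trans le_normalizer) ?_
    have hnA : K.A ≤ normalizer (F : Set G) := by
      intro a ha
      refine mem_normalizer_iff.2 fun x => ?_
      have key : ∀ a ∈ K.A, ∀ x ∈ F, a * x * a⁻¹ ∈ F := by
        rintro a ha _ ⟨y, hy, rfl⟩
        exact ⟨⟨a, ha⟩ * y * ⟨a, ha⟩⁻¹, (Cfsg.pCore_normal m ↥K.A).conj_mem y hy _, rfl⟩
      exact ⟨key a ha x, fun h => by simpa [mul_assoc] using key a⁻¹ (inv_mem ha) _ h⟩
    intro a ha
    refine mem_normalizer_iff_map_conj_eq.2 ?_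
    rw [Subgroup.map_sup, mem_normalizer_iff_map_conj_eq.1 (K.hAN ha),
      mem_normalizer_iff_map_conj_eq.1 (hnA ha)]
  have hYnorm : N ≤ normalizer (Y : Set G) := by
    rw [hY, ← Subgroup.map_equiv_normalizer_eq, hN, ← K.hsup, ← K.inv_A σ hσ]
    refine map_mono ?_
    rw [K.hsup]; exact hnormTF
  haveI : ((Y ⊓ K.A).subgroupOf K.A).Normal := by
    refine normal_subgroupOf_of_le_normalizer fun a ha => mem_normalizer_iff.2 fun x => ?_
    have h1 := mem_normalizer_iff.1 (hYnorm (K.hAN ha)) x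
    refine ⟨fun h => mem_inf.2 ⟨h1.1 (mem_inf.1 h).1,
      K.A.mul_mem (K.A.mul_mem ha (mem_inf.1 h).2) (K.A.inv_mem ha)⟩, fun h => mem_inf.2 ⟨h1.2 (mem_inf.1 h).1, ?_⟩⟩
    have h2 := K.A.mul_mem (K.A.mul_mem (K.A.inv_mem ha) (mem_inf.1 h).2) ha
    simpa [mul_assoc] using h2
  have hc : Nat.card (Y ⊓ K.A : Subgroup G) = Nat.card F := by
    have h1 : Nat.card Y = Nat.card ↥((L.T : Subgroup G) ⊔ F) :=
      Subgroup.card_map_of_injective σ.injective
    rw [hYeq, K.card_sup inf_le_right, K.card_sup hF] at h1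
    exact Nat.eq_of_mul_eq_mul_left Nat.card_pos h1
  have hle : Y ⊓ K.A ≤ F := by
    have hp : IsPGroup m ((Y ⊓ K.A).subgroupOf K.A) := by
      have hFp : IsPGroup m F := Cores.pCore_isPGroup.map _
      obtain ⟨k, hk⟩ := IsPGroup.iff_card.1 hFp
      refine IsPGroup.of_card (n := k) ?_
      rw [Nat.card_congr (Subgroup.subgroupOfEquivOfLe inf_le_right).toEquiv, hc, hk]
    have := map_mono (f := K.A.subtype) (Cores.le_pCore hp)
    rwa [subgroupOf_map_subtype, inf_of_le_left inf_le_right] at this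
  rw [hYeq, Subgroup.eq_of_le_of_card_ge hle hc.ge]

theorem fix_core {m : ℕ} (hm : m.Prime) (hne : K.core m ≠ ⊥) :
    Nat.card (K.core m) = m ∧
      ∀ a ∈ K.core m, a ≠ 1 → ∀ t ∈ (L.T : Subgroup G), Commute a t → t = 1 := by
  haveI := Fact.mk hm
  set F := K.core m with hFdef
  have hF : F ≤ K.A := map_subtype_le _
  have hFp : IsPGroup m F := Cores.pCore_isPGroup.map _
  have hFodd : Odd (Nat.card F) := K.hodd.of_dvd_nat (card_dvd_of_le hF)
  have hm2 : Odd m := hFodd.of_dvd_nat (by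
    obtain ⟨k, hk⟩ := IsPGroup.iff_card.1 hFp
    rw [hk]; refine dvd_pow_self m fun h => hne ?_
    rw [h, pow_zero] at hk; exact Subgroup.card_eq_one.1 hk)
  letI : CommGroup ↥(L.T : Subgroup G) :=
    { (inferInstance : Group ↥(L.T : Subgroup G)) with
      mul_comm := fun a b => Subtype.ext (L.comm a.2 b.2).eq }
  letI act : MulDistribMulAction ↥F ↥(L.T : Subgroup G) :=
    MulDistribMulAction.compHom _
      ((L.T : Subgroup G).normalizerMonoidHom.comp (Subgroup.inclusion (hF.trans K.hAN)))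
  have hsmul : ∀ (a : F) (t : ↥(L.T : Subgroup G)),
      ((a • t : ↥(L.T : Subgroup G)) : G) = (a : G) * t * (a : G)⁻¹ := fun a t => rfl
  have hfix : ∀ (a : F) (t : ↥(L.T : Subgroup G)), a • t = t ↔ Commute (a : G) (t : G) := by
    intro a t
    rw [Subtype.ext_iff, hsmul, mul_inv_eq_iff_eq_mul]
    rfl
  haveI : Nontrivial ↥(L.T : Subgroup G) := (nontrivial_iff_ne_bot _).2 L.T_ne_bot
  haveI : Nontrivial ↥F := (nontrivial_iff_ne_bot _).2 hne
  have hexp : ∀ a : F, a ^ m = 1 := by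
    intro a
    rcases eq_or_ne a 1 with rfl | ha
    · exact one_pow m
    have hp := L.odd_prime (g := (a : G))
      (hFodd.of_dvd_nat (Subgroup.orderOf_dvd_natCard F a.2)) (fun h => ha (Subtype.ext h))
    obtain ⟨k, hk⟩ := IsPGroup.iff_orderOf.1 hFp a
    rw [Subgroup.orderOf_coe, hk] at hp
    rw [← orderOf_dvd_iff_pow_eq_one, hk, (Nat.Prime.pow_eq_iff hp).1 rfl |>.2, pow_one]
  obtain ⟨h1, h2⟩ := semiregular_of_constant (A := ↥F) (T := ↥(L.T : Subgroup G))
    (fun x => Subtype.ext (L.sq_eq_one x.2)) (fun a ha => by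
      have hc : (a : G) ∈ centralizer ((L.T : Subgroup G) : Set G) := mem_centralizer_iff.2
        fun t ht => ((hfix a ⟨t, ht⟩).1 (ha _)).symm.eq
      have : (a : G) ∈ (L.T : Subgroup G) ⊓ K.A := ⟨L.hCT hc, hF a.2⟩
      rw [K.hinf] at this
      exact Subtype.ext (mem_bot.1 this)) hm hm2 hexp (fun s t hs ht => by
      have key : ∀ u : ↥(L.T : Subgroup G),
          Nat.card (MulAction.stabilizer ↥F u) = Nat.card (stab F (u : G)) := by
        intro u
        refine Nat.card_congr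
          { toFun := fun a => ⟨(a.1 : G), a.1.2,
              mem_centralizer_singleton_iff.2 ((hfix a.1 u).1 a.2).eq⟩
            invFun := fun a => ⟨⟨a.1, a.2.1⟩, (hfix _ u).2 (mem_centralizer_singleton_iff.1 a.2.2)⟩
            left_inv := fun a => rfl
            right_inv := fun a => rfl }
      rw [key, key]
      exact K.card_stab hF (K.inv_core m) s.2 (fun h => hs (Subtype.ext h)) t.2
        (fun h => ht (Subtype.ext h)))
  refine ⟨h1, fun a ha ha1 t ht hcomm => ?_⟩
  have := h2 ⟨a, ha⟩ (fun h => ha1 (congrArg Subtype.val h)) ⟨t, ht⟩ ((hfix _ _).2 hcomm)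
  exact congrArg Subtype.val this

theorem ne_bot : K.A ≠ ⊥ := by
  intro h
  haveI : Fact (Nat.Prime 2) := ⟨Nat.prime_two⟩
  refine H68.burnside_not_abelian L.hna L.T L.heven ?_
  rw [← K.hsup, h, sup_bot_eq]
  exact le_centralizer_iff_isMulCommutative.2
    ⟨⟨fun a b => Subtype.ext (L.comm a.2 b.2).eq⟩⟩

/-- The structure of the complement. -/
theorem structure_A : ∃ p : ℕ, p.Prime ∧ p ≠ 2 ∧ ∃ a ∈ K.A, orderOf a = p ∧
    K.A ≤ normalizer ((zpowers a : Subgroup G) : Set G) ∧
    (∀ x ∈ zpowers a, x ≠ 1 → ∀ t ∈ (L.T : Subgroup G), Commute x t → t = 1) ∧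
    (Nat.card K.A = p ∨ (Nat.card K.A = p * L.r ∧ p ≠ L.r ∧
      (∀ t ∈ (L.T : Subgroup G), t ≠ 1 → Nat.card (stab K.A t) = L.r) ∧
      ∃ t ∈ (L.T : Subgroup G), t ≠ 1 ∧ ∃ b ∈ K.A, orderOf b = L.r ∧ Commute b t)) := by
  classical
  haveI : Nontrivial ↥K.A := (nontrivial_iff_ne_bot _).2 K.ne_bot
  haveI hsolv : Group.IsSolvable ↥K.A := S0205.result K.hodd
  obtain ⟨p, hp, hcore⟩ := H74.EPPO.pCore_ne_bot_of_solvable (G := ↥K.A) ⊤ top_ne_bot
    (Group.isSolvable_of_surjective (f := (Subgroup.topEquiv (G := ↥K.A)).symm.toMonoidHom)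
      (MulEquiv.surjective _))
  haveI := Fact.mk hp
  have hne : K.core p ≠ ⊥ := fun h => hcore ((map_eq_bot_iff_of_injective _
    K.A.subtype_injective).1 h)
  obtain ⟨hcard, hfree⟩ := K.fix_core hp hne
  set F := K.core p with hFdef
  have hF : F ≤ K.A := map_subtype_le _
  have hp2 : p ≠ 2 := by
    intro h
    have := K.hodd.of_dvd_nat (Subgroup.card_dvd_of_le hF)
    rw [hcard, h] at this
    exact absurd this (by decide)
  haveI : IsCyclic ↥F := isCyclic_of_prime_card hcard
  obtain ⟨⟨a, ha⟩, hgen⟩ := IsCyclic.exists_generator (α := ↥F)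
  have hFa : zpowers a = F := by
    refine le_antisymm (zpowers_le.2 ha) fun x hx => ?_
    obtain ⟨i, hi⟩ := mem_zpowers_iff.1 (hgen ⟨x, hx⟩)
    exact mem_zpowers_iff.2 ⟨i, congrArg Subtype.val hi⟩
  have hao : orderOf a = p := by rw [← Nat.card_zpowers, hFa, hcard]
  have hnA : K.A ≤ normalizer (F : Set G) := by
    intro c hc
    refine mem_normalizer_iff.2 fun x => ?_
    have key : ∀ c ∈ K.A, ∀ x ∈ F, c * x * c⁻¹ ∈ F := by
      rintro c hc _ ⟨y, hy, rfl⟩
      exact ⟨⟨c, hc⟩ * y * ⟨c, hc⟩⁻¹, (Cfsg.pCore_normal p ↥K.A).conj_mem y hy _, rfl⟩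
    exact ⟨key c hc x, fun h => by simpa [mul_assoc] using key c⁻¹ (inv_mem hc) _ h⟩
  refine ⟨p, hp, hp2, a, hF ha, hao, hFa.symm ▸ hnA, hFa.symm ▸ hfree, ?_⟩
  let φ : ↥K.A →* MulAut ↥F := F.normalizerMonoidHom.comp (Subgroup.inclusion hnA)
  have hker : φ.ker.map K.A.subtype = F := by
    refine le_antisymm ?_ ?_
    · have hp' : IsPGroup p φ.ker := by
        rintro ⟨⟨c, hcA⟩, hc⟩
        rcases eq_or_ne c 1 with rfl | hc1
        · exact ⟨0, by simp⟩
        have hpr := L.odd_prime (g := c)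
          (K.hodd.of_dvd_nat (Subgroup.orderOf_dvd_natCard K.A hcA)) hc1
        have hcom : Commute c a := by
          have := congrArg (fun u : ↥F => (u : G))
            (DFunLike.congr_fun (MonoidHom.mem_ker.1 hc) ⟨a, ha⟩)
          exact mul_inv_eq_iff_eq_mul.1 (this : c * a * c⁻¹ = a)
        refine ⟨1, Subtype.ext (Subtype.ext ?_)⟩
        rw [pow_one]
        show c ^ p = 1
        by_contra hcp
        have hne' : orderOf c ≠ p := fun h => hcp (h ▸ pow_orderOf_eq_one c)
        have hco : (orderOf c).Coprime (orderOf a) :=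
          hao.symm ▸ (Nat.coprime_primes hpr hp).2 hne'
        have h := hcom.orderOf_mul_eq_mul_orderOf_of_coprime hco
        have hlt1 := hpr.two_le
        have hlt2 := hp.two_le
        rcases L.hord (c * a) with h' | h' | h'
        · rw [h, hao] at h'; nlinarith
        · rw [h, hao] at h'; exact Nat.not_prime_mul hpr.ne_one hp.ne_one h'
        · have : Odd (orderOf c * orderOf a) :=
            (K.hodd.of_dvd_nat (Subgroup.orderOf_dvd_natCard K.A hcA)).mul
              (by rw [hao]; exact hp.odd_of_ne_two hp2)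
          rw [hao] at this
          rw [h, hao] at h'
          rw [h'] at this
          exact absurd this (Nat.not_odd_iff_even.2 (even_two_mul _))
      exact map_mono (Cores.le_pCore hp')
    · intro x hx
      refine ⟨⟨x, hF hx⟩, MonoidHom.mem_ker.2 (MulEquiv.ext fun u => Subtype.ext ?_), rfl⟩
      show x * (u : G) * x⁻¹ = u
      letI : CommGroup ↥F := IsCyclic.commGroup
      exact mul_inv_eq_iff_eq_mul.2 (congrArg Subtype.val (mul_comm (⟨x, hx⟩ : ↥F) u))
  have hcA : Nat.card K.A = p * Nat.card φ.range := by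
    rw [← φ.ker.card_mul_index, Subgroup.index_ker,
      ← Subgroup.card_map_of_injective K.A.subtype_injective, hker, hcard]
  haveI : IsCyclic (MulAut ↥F) := by
    haveI : IsCyclic (ZMod (Nat.card ↥F))ˣ := by rw [hcard]; exact ZMod.isCyclic_units_prime hp
    exact isCyclic_of_surjective (IsCyclic.mulAutMulEquiv ↥F).symm (MulEquiv.surjective _)
  obtain ⟨⟨w, hw⟩, hwgen⟩ := IsCyclic.exists_generator (α := φ.range)
  obtain ⟨b, rfl⟩ := hw
  have hrc : Nat.card φ.range = orderOf (φ b) := by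
    rw [← orderOf_eq_card_of_forall_mem_zpowers hwgen, ← Subgroup.orderOf_coe]
  rcases eq_or_ne (φ b) 1 with h1 | h1
  · left; rw [hcA, hrc, h1, orderOf_one, mul_one]
  right
  have hb1 : (b : G) ≠ 1 := fun h => h1 (by rw [show b = 1 from Subtype.ext h, map_one])
  have hbp := L.odd_prime (g := (b : G))
    (K.hodd.of_dvd_nat (Subgroup.orderOf_dvd_natCard K.A b.2)) hb1
  set e := orderOf (b : G) with hedef
  have heb : orderOf (φ b) = e := by
    have h := orderOf_map_dvd φ b
    rw [← Subgroup.orderOf_coe, ← hedef] at h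
    rcases (Nat.dvd_prime hbp).1 h with h | h
    · exact absurd (orderOf_eq_one_iff.1 h) h1
    · exact h
  have hAe : Nat.card K.A = p * e := by rw [hcA, hrc, heb]
  have hep : e ≠ p := by
    intro h
    have hpg : IsPGroup p ↥K.A := IsPGroup.of_card (n := 2) (by rw [hAe, h, pow_two])
    have htop : K.core p = K.A := by
      rw [Loc.Compl.core, Cores.pCore_eq_top_iff.2 hpg, ← MonoidHom.range_eq_map, range_subtype]
    have : Nat.card K.A = p := by rw [← htop]; exact hcard
    rw [hAe, h] at this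
    nlinarith [hp.two_le]
  -- a fixed point of `b`
  letI : CommGroup ↥(L.T : Subgroup G) :=
    { (inferInstance : Group ↥(L.T : Subgroup G)) with
      mul_comm := fun a b => Subtype.ext (L.comm a.2 b.2).eq }
  letI act : MulDistribMulAction ↥K.A ↥(L.T : Subgroup G) :=
    MulDistribMulAction.compHom _
      ((L.T : Subgroup G).normalizerMonoidHom.comp (Subgroup.inclusion K.hAN))
  have hfix : ∀ (c : K.A) (t : ↥(L.T : Subgroup G)), c • t = t ↔ Commute (c : G) (t : G) := by
    intro c t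
    rw [Subtype.ext_iff]
    exact mul_inv_eq_iff_eq_mul
  haveI : Nontrivial ↥(L.T : Subgroup G) := (nontrivial_iff_ne_bot _).2 L.T_ne_bot
  obtain ⟨⟨t, ht⟩, ht1, hbt⟩ := exists_fixed_frobenius (A := ↥K.A) (T := ↥(L.T : Subgroup G))
    (fun x => Subtype.ext (L.sq_eq_one x.2)) (p := p) (e := e) (hp.odd_of_ne_two hp2)
    (a := ⟨a, hF ha⟩) (b := b) (Subtype.ext (by rw [← hao]; exact pow_orderOf_eq_one a))
    (by rw [hedef, Subgroup.orderOf_coe]; exact pow_orderOf_eq_one b)
    (fun i => by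
      have hm : ((b : G) ^ i)⁻¹ * a * (b : G) ^ i ∈ zpowers a := by
        rw [hFa]
        have := (mem_normalizer_iff.1 (hnA (inv_mem (pow_mem b.2 i))) a).1 ha
        rwa [inv_inv] at this
      obtain ⟨j, hj⟩ := mem_zpowers_iff.1 hm
      exact mem_zpowers_iff.2 ⟨j, Subtype.ext (by push_cast; exact hj)⟩)
    (fun i hi hie h => by
      have hk : φ ((b : ↥K.A) ^ i) = 1 := by
        refine MulEquiv.ext fun u => Subtype.ext ?_
        show ((b ^ i : ↥K.A) : G) * (u : G) * ((b ^ i : ↥K.A) : G)⁻¹ = u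
        have hcom : Commute ((b : G) ^ i) a := by
          have := congrArg Subtype.val h
          push_cast at this
          show _ = _
          calc (b : G) ^ i * a = (b : G) ^ i * (((b : G) ^ i)⁻¹ * a * (b : G) ^ i) := by rw [this]
            _ = a * (b : G) ^ i := by group
        obtain ⟨j, hj⟩ := mem_zpowers_iff.1 (hFa.symm ▸ u.2 : (u : G) ∈ zpowers a)
        push_cast
        rw [← hj, (hcom.zpow_right j).eq, mul_inv_cancel_right]
      rw [map_pow, ← orderOf_dvd_iff_pow_eq_one, heb] at hk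
      exact absurd (Nat.le_of_dvd (Nat.pos_of_ne_zero hi) hk) (by omega))
    (fun y hy hy1 t hyt => by
      obtain ⟨j, rfl⟩ := mem_zpowers_iff.1 hy
      refine Subtype.ext (hfree _ (hFa ▸ zpow_mem_zpowers a j) (fun h => hy1 (Subtype.ext ?_)) _ t.2
        ?_)
      · push_cast; exact h
      · have := (hfix _ t).1 hyt
        push_cast at this
        exact this)
    hbp.pos
  have hbt' : Commute (b : G) t := (hfix b ⟨t, ht⟩).1 hbt
  have ht1' : t ≠ 1 := fun h => ht1 (Subtype.ext h)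
  have her : e = L.r := by
    have ho2 := L.invol ht ht1'
    have heo : Odd e := K.hodd.of_dvd_nat (Subgroup.orderOf_dvd_natCard K.A b.2)
    have hco : (orderOf (b : G)).Coprime (orderOf t) := by
      rw [ho2, ← hedef]; exact Nat.coprime_two_right.2 heo
    have h := hbt'.orderOf_mul_eq_mul_orderOf_of_coprime hco
    rw [ho2, ← hedef] at h
    have h2 := hbp.two_le
    rcases L.hord ((b : G) * t) with h' | h' | h'
    · rw [h] at h'; omega
    · rw [h] at h'; exact absurd h' (Nat.not_prime_mul hbp.ne_one (by norm_num))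
    · rw [h] at h'; omega
  refine ⟨her ▸ hAe, her ▸ hep.symm, fun s hs hs1 => ?_, t, ht, ht1', (b : G), b.2, her, hbt'⟩
  have hconst : Nat.card (stab K.A s) = Nat.card (stab K.A t) :=
    K.card_stab le_rfl (K.inv_A) hs hs1 ht ht1'
  rw [hconst, ← her]
  have hdvd : Nat.card (stab K.A t) ∣ p * e := hAe ▸ card_dvd_of_le inf_le_left
  have hcop : (Nat.card (stab K.A t)).Coprime p := by
    rw [Nat.coprime_comm, hp.coprime_iff_not_dvd]
    intro hd
    obtain ⟨⟨x, hx⟩, hxo⟩ := exists_prime_orderOf_dvd_card' p hd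
    rw [Subgroup.orderOf_mk] at hxo
    have hxF : x ∈ F := by
      by_contra hxF
      have hφ : φ ⟨x, hx.1⟩ ≠ 1 := fun h => hxF (hker ▸ ⟨⟨x, hx.1⟩, MonoidHom.mem_ker.2 h, rfl⟩)
      have h1' : orderOf (φ ⟨x, hx.1⟩) ∣ p := by
        have := orderOf_map_dvd φ (⟨x, hx.1⟩ : ↥K.A)
        rwa [Subgroup.orderOf_mk, hxo] at this
      have h2' : orderOf (φ ⟨x, hx.1⟩) ∣ e := by
        rw [← heb, ← hrc]
        exact Subgroup.orderOf_dvd_natCard φ.range ⟨_, rfl⟩
      refine hφ (orderOf_eq_one_iff.1 ?_)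
      exact Nat.eq_one_of_dvd_coprimes ((Nat.coprime_primes hp hbp).2 hep.symm) h1' h2'
    refine ht1' (hfree x hxF (fun h => ?_) t ht (mem_centralizer_singleton_iff.1 hx.2))
    rw [h, orderOf_one] at hxo; exact hp.one_lt.ne hxo
  refine Nat.dvd_antisymm (hcop.dvd_of_dvd_mul_left hdvd) ?_
  exact Subgroup.orderOf_dvd_natCard _ ⟨b.2, mem_centralizer_singleton_iff.2 hbt'.eq⟩

end Loc.Compl

end Cfsg.Agent.H76.FiveOrbits
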