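import Cfsg.Agent.H76.FiveOrbits.CaseTwoStab
import Cfsg.Agent.S0348
import Cfsg.Agent.S0254
import Cfsg.Agent.H70.SpectrumCN
import Cfsg.Agent.Golay.PlaneGroup
import Cfsg.Prelude.Def_Exceptional

/-!
Simple groups with at most five automorphism orbits.
-/

set_option autoImplicit false
set_option linter.style.haveILetI false
set_option linter.unusedSectionVars false

namespace Cfsg.Agent.H76.FiveOrbits

theorem no_pow_three {n a : ℕ} (hn : 4 ≤ n) : 2 ^ n + 1 ≠ 3 ^ a ∧ 2 ^ n ≠ 3 ^ a + 1 := by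
  have h16 : 16 ≤ 2 ^ n := le_trans (by norm_num) (Nat.pow_le_pow_right two_pos hn)
  have h2 : 16 ∣ 2 ^ n := Nat.pow_dvd_pow 2 hn
  constructor
  · intro h
    rcases Nat.even_or_odd' a with ⟨b, rfl | rfl⟩
    · -- `(3 ^ b - 1) (3 ^ b + 1) = 2 ^ n`
      obtain ⟨u, hu⟩ : ∃ u, 3 ^ b = u + 1 := ⟨3 ^ b - 1, by have := Nat.one_le_pow b 3 (by norm_num); omega⟩
      have hprod : u * (u + 2) = 2 ^ n := by
        have h' : 3 ^ (2 * b) = (3 ^ b) ^ 2 := by rw [← pow_mul, mul_comm]
        rw [h', hu] at h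
        nlinarith
      obtain ⟨i, -, hi⟩ := (Nat.dvd_prime_pow Nat.prime_two).1 ⟨u + 2, hprod.symm⟩
      obtain ⟨j, -, hj⟩ := (Nat.dvd_prime_pow Nat.prime_two).1
        ⟨u, by rw [← hprod, mul_comm]⟩
      rcases lt_or_ge i 2 with hi2 | hi2
      · interval_cases i <;> simp at hi <;> subst hi <;> omega
      · have e0 : 4 ≤ 2 ^ i := le_trans (by norm_num) (Nat.pow_le_pow_right two_pos hi2)
        have hj2 : 2 ≤ j := by
          by_contra hlt
          interval_cases j <;> norm_num at hj <;> omega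
        have e1 : 4 ∣ 2 ^ i := Nat.pow_dvd_pow 2 hi2
        have e2 : 4 ∣ 2 ^ j := Nat.pow_dvd_pow 2 hj2
        omega
    · have : 3 ^ (2 * b + 1) % 8 = 3 := by
        rw [pow_succ, pow_mul, Nat.mul_mod, Nat.pow_mod]; norm_num
      omega
  · intro h
    have : 3 ^ a % 8 = 1 ∨ 3 ^ a % 8 = 3 := by
      rcases Nat.even_or_odd' a with ⟨b, rfl | rfl⟩
      · left; rw [pow_mul, Nat.pow_mod]; norm_num
      · right; rw [pow_succ, pow_mul, Nat.mul_mod, Nat.pow_mod]; norm_num
    omega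

open scoped Pointwise

variable {G : Type*} [Group G] [Finite G] [IsSimpleGroup G]

/-- The hypothesis: at most five automorphism orbits. -/
def Few (G : Type*) [Group G] : Prop :=
  Nat.card (MulAction.orbitRel.Quotient (MulAut G) G) ≤ 5

theorem orders_card_le (h5 : Few G) [Fintype G] :
    (Finset.univ.image (orderOf : G → ℕ)).card ≤ 5 := by
  classical
  let f : MulAction.orbitRel.Quotient (MulAut G) G → ℕ := Quotient.lift (orderOf : G → ℕ) (by
    intro x y hxy
    obtain ⟨σ, rfl⟩ := (hxy : x ∈ MulAction.orbit (MulAut G) y)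
    exact MulEquiv.orderOf_eq σ y)
  refine le_trans ?_ h5
  rw [← Fintype.card_coe, ← Nat.card_eq_fintype_card]
  refine Nat.card_le_card_of_surjective
    (fun q => (⟨f q, by
      induction q using Quotient.inductionOn with
      | h x => exact Finset.mem_image.2 ⟨x, Finset.mem_univ _, rfl⟩⟩ :
      ↥(Finset.univ.image (orderOf : G → ℕ)))) ?_
  rintro ⟨k, hk⟩
  obtain ⟨x, -, rfl⟩ := Finset.mem_image.1 hk
  exact ⟨Quotient.mk'' x, rfl⟩

/-- Five distinct orders: they are all orders, and they classify the orbits. -/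
theorem five_orders (h5 : Few G) {ks : Finset ℕ} (hks : ks.card = 5)
    (hex : ∀ k ∈ ks, ∃ g : G, orderOf g = k) :
    (∀ g : G, orderOf g ∈ ks) ∧
      ∀ x y : G, orderOf x = orderOf y → ∃ σ : MulAut G, σ x = y := by
  classical
  haveI := Fintype.ofFinite G
  set O := Finset.univ.image (orderOf : G → ℕ) with hO
  have hsub : ks ⊆ O := fun k hk => by
    obtain ⟨g, hg⟩ := hex k hk
    exact Finset.mem_image.2 ⟨g, Finset.mem_univ _, hg⟩
  have heq : ks = O := Finset.eq_of_subset_of_card_le hsub (by rw [hks]; exact orders_card_le h5)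
  refine ⟨fun g => heq ▸ Finset.mem_image.2 ⟨g, Finset.mem_univ _, rfl⟩, fun x y hxy => ?_⟩
  let f : MulAction.orbitRel.Quotient (MulAut G) G → ↥O := Quotient.lift
    (fun g : G => (⟨orderOf g, Finset.mem_image.2 ⟨g, Finset.mem_univ _, rfl⟩⟩ : ↥O)) (by
      intro a b hab
      obtain ⟨σ, rfl⟩ := (hab : a ∈ MulAction.orbit (MulAut G) b)
      exact Subtype.ext (MulEquiv.orderOf_eq σ b))
  have hsurj : Function.Surjective f := by
    rintro ⟨k, hk⟩
    obtain ⟨g, -, rfl⟩ := Finset.mem_image.1 hk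
    exact ⟨Quotient.mk'' g, rfl⟩
  have hcard : Nat.card (MulAction.orbitRel.Quotient (MulAut G) G) = Nat.card ↥O := by
    refine le_antisymm ?_ (Nat.card_le_card_of_surjective f hsurj)
    rw [Nat.card_eq_fintype_card (α := ↥O), Fintype.card_coe, ← heq, hks]
    exact h5
  have hinj := ((Nat.bijective_iff_surjective_and_card f).2 ⟨hsurj, hcard⟩).1
  have hq : (Quotient.mk'' x : MulAction.orbitRel.Quotient (MulAut G) G) = Quotient.mk'' y :=
    hinj (Subtype.ext hxy)
  obtain ⟨σ, hσ⟩ := MulAction.orbitRel_apply.1 (Quotient.eq''.1 hq.symm)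
  exact ⟨σ, hσ⟩

theorem exists_of_prime_dvd {p : ℕ} (hp : p.Prime) (h : p ∣ Nat.card G) :
    ∃ g : G, orderOf g = p := by
  haveI := Fact.mk hp
  exact exists_prime_orderOf_dvd_card' p h

theorem two_dvd_card (hna : ¬ IsMulCommutative G) : 2 ∣ Nat.card G := by
  by_contra h
  haveI := S0205.result (G := G) (Nat.odd_iff.2 (Nat.two_dvd_ne_zero.1 h))
  exact hna ⟨⟨fun a b => IsSimpleGroup.comm_iff_isSolvable.mpr inferInstance a b⟩⟩

theorem exists_odd_prime_ne (hna : ¬ IsMulCommutative G) (p : ℕ) :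
    ∃ q : ℕ, q.Prime ∧ q ∣ Nat.card G ∧ q ≠ 2 ∧ q ≠ p := by
  by_contra! hcon
  by_cases hp : p.Prime
  · obtain ⟨a, b, h⟩ := eq_prime_pow_mul (q := p) Nat.card_pos.ne' Nat.prime_two
      fun d hd hdv => or_iff_not_imp_left.2 fun h2 => hcon d hd hdv h2
    haveI := S0144.result (G := G) 2 p a b Nat.prime_two hp h
    exact hna ⟨⟨fun a b => IsSimpleGroup.comm_iff_isSolvable.mpr inferInstance a b⟩⟩
  · obtain ⟨a, b, h⟩ := eq_prime_pow_mul (q := 2) Nat.card_pos.ne' Nat.prime_two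
      fun d hd hdv => Or.inl (by_contra fun h2 => hp (hcon d hd hdv h2 ▸ hd))
    haveI := S0144.result (G := G) 2 2 a b Nat.prime_two Nat.prime_two h
    exact hna ⟨⟨fun a b => IsSimpleGroup.comm_iff_isSolvable.mpr inferInstance a b⟩⟩

theorem card_sylow_two (T : Sylow 2 G) {k m : ℕ} (h : Nat.card G = 2 ^ k * m) (hm : ¬ 2 ∣ m) :
    Nat.card ↥(T : Subgroup G) = 2 ^ k := by
  haveI : Fact (Nat.Prime 2) := ⟨Nat.prime_two⟩
  have hm0 : m ≠ 0 := fun e => hm (e ▸ dvd_zero 2)
  rw [T.card_eq_multiplicity, h, Nat.factorization_mul (by positivity) hm0, Finsupp.add_apply,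
    Nat.prime_two.factorization_pow, Finsupp.single_eq_same,
    Nat.factorization_eq_zero_of_not_dvd hm, add_zero]

/-- Four prime divisors force all orders to be prime. -/
theorem four_primes (h5 : Few G) (hna : ¬ IsMulCommutative G) {a b c : ℕ} (ha : a.Prime)
    (hb : b.Prime) (hc : c.Prime) (ha2 : a ≠ 2) (hb2 : b ≠ 2) (hc2 : c ≠ 2) (hab : a ≠ b)
    (hac : a ≠ c) (hbc : b ≠ c) (hda : a ∣ Nat.card G) (hdb : b ∣ Nat.card G)
    (hdc : c ∣ Nat.card G) :
    (∀ g : G, orderOf g = 1 ∨ (orderOf g).Prime) ∧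
      ∀ T : Sylow 2 G, (Nat.card ↥(T : Subgroup G) - 1).Prime := by
  have h2 := two_dvd_card hna
  have hcard : ({1, 2, a, b, c} : Finset ℕ).card = 5 := by
    have := ha.two_le; have := hb.two_le; have := hc.two_le
    rw [Finset.card_insert_of_notMem, Finset.card_insert_of_notMem, Finset.card_insert_of_notMem,
      Finset.card_insert_of_notMem, Finset.card_singleton] <;>
      simp only [Finset.mem_insert, Finset.mem_singleton] <;> omega
  obtain ⟨hord, hconj⟩ := five_orders h5 hcard fun k hk => by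
    simp only [Finset.mem_insert, Finset.mem_singleton] at hk
    rcases hk with rfl | rfl | rfl | rfl | rfl
    · exact ⟨1, orderOf_one⟩
    · exact exists_of_prime_dvd Nat.prime_two h2
    all_goals exact exists_of_prime_dvd ‹_› ‹_›
  have hall : ∀ g : G, orderOf g = 1 ∨ (orderOf g).Prime := by
    intro g
    have := hord g
    simp only [Finset.mem_insert, Finset.mem_singleton] at this
    rcases this with e | e | e | e | e
    · exact Or.inl e
    · exact Or.inr (e ▸ Nat.prime_two)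
    · exact Or.inr (e ▸ ha)
    · exact Or.inr (e ▸ hb)
    · exact Or.inr (e ▸ hc)
  exact ⟨hall, fun T => card_sylow_sub_one_prime hna hall
    (fun s t hs ht => hconj s t (hs.trans ht.symm)) h2 T⟩

theorem not_two_mul (h5 : Few G) (hna : ¬ IsMulCommutative G) {r : ℕ} (hr : r.Prime) (hr2 : r ≠ 2)
    {g : G} (hg : orderOf g = 2 * r) : False := by
  obtain ⟨s, hs, hsd, hs2, hsr⟩ := exists_odd_prime_ne hna r
  have hrd : r ∣ Nat.card G := (dvd_mul_left r 2).trans (hg ▸ orderOf_dvd_natCard g)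
  have hcard : ({1, 2, r, 2 * r, s} : Finset ℕ).card = 5 := by
    have := hr.two_le; have := hs.two_le
    have : s ≠ 2 * r := fun h => Nat.not_prime_mul (by norm_num) hr.ne_one (h ▸ hs)
    rw [Finset.card_insert_of_notMem, Finset.card_insert_of_notMem, Finset.card_insert_of_notMem,
      Finset.card_insert_of_notMem, Finset.card_singleton] <;>
      simp only [Finset.mem_insert, Finset.mem_singleton] <;> omega
  obtain ⟨hord, hconj⟩ := five_orders h5 hcard fun k hk => by
    simp only [Finset.mem_insert, Finset.mem_singleton] at hk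
    rcases hk with rfl | rfl | rfl | rfl | rfl
    · exact ⟨1, orderOf_one⟩
    · exact exists_of_prime_dvd Nat.prime_two (two_dvd_card hna)
    · exact exists_of_prime_dvd hr hrd
    · exact ⟨g, hg⟩
    · exact exists_of_prime_dvd hs hsd
  let H : Two G := ⟨r, s, hr, hs, hr2, hs2, hsr.symm, fun x => by
    have := hord x
    simpa only [Finset.mem_insert, Finset.mem_singleton] using this,
    hconj, ⟨g, hg⟩, exists_of_prime_dvd hs hsd, hna⟩
  obtain ⟨A, hAN, hinf, hsup, hodd⟩ := H.toLoc.exists_compl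
  let K : H.toLoc.Compl := ⟨A, hAN, hinf, hsup, hodd⟩
  obtain ⟨p, hp, hp2, a, haA, hao, hnorm, hfree, hcase⟩ := K.structure_A
  rcases hcase with hA | ⟨hA, hpr, hstab, t, ht, ht1, b, hbA, hbo, hbt⟩
  · exact H.false_of_free K hp hp2 haA hao hfree hA
  · exact H.false_of_stab K hp hp2 haA hao hnorm hfree hA hpr hstab ht ht1 hbA hbo hbt

theorem cit (h5 : Few G) (hna : ¬ IsMulCommutative G) :
    ∀ t : G, orderOf t = 2 → IsPGroup 2 (Subgroup.centralizer ({t} : Set G)) := by
  intro t ht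
  haveI : Fact (Nat.Prime 2) := ⟨Nat.prime_two⟩
  refine IsPGroup.of_card (n := (Nat.card (Subgroup.centralizer ({t} : Set G))).primeFactorsList.length)
    (Nat.eq_prime_pow_of_unique_prime_dvd Nat.card_pos.ne' fun {d} hd hdv => ?_)
  by_contra h2
  haveI := Fact.mk hd
  obtain ⟨⟨x, hx⟩, hxo⟩ := exists_prime_orderOf_dvd_card' d hdv
  rw [Subgroup.orderOf_mk] at hxo
  have hc : Commute x t := Subgroup.mem_centralizer_singleton_iff.1 hx
  refine not_two_mul h5 hna hd h2 (g := t * x) ?_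
  rw [hc.symm.orderOf_mul_eq_mul_orderOf_of_coprime, ht, hxo]
  rw [ht, hxo]
  exact (Nat.coprime_primes Nat.prime_two hd).2 (Ne.symm h2)

/-- Excluding the groups of Suzuki order. -/
theorem not_suzuki (h5 : Few G) (hna : ¬ IsMulCommutative G) : ¬ Cfsg.IsSuzuki G := by
  intro hSz
  obtain ⟨c, hc, hc5, hcd⟩ := H70.SpecCN.exists_prime_suzuki hSz
  have h5d := H70.SpecCN.five_dvd_suzuki hSz
  obtain ⟨-, m, hm, hcard⟩ := hSz
  set q := 2 ^ (2 * m + 1) with hq
  have h8 : 8 ≤ q := le_trans (by norm_num) (Nat.pow_le_pow_right two_pos (show 3 ≤ 2 * m + 1 by omega))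
  have hq2 : 2 ∣ q := dvd_pow_self 2 (by omega)
  -- `q² + 1 = (q + h + 1) (q - h + 1)` is no power of five
  obtain ⟨b, hb, hbd, hb5⟩ : ∃ b, b.Prime ∧ b ∣ q ^ 2 + 1 ∧ b ≠ 5 := by
    by_contra! hcon
    set h := 2 ^ (m + 1) with hh
    have hh2 : h * h = 2 * q := by rw [hh, hq, ← pow_add, ← pow_succ']; ring_nf
    have hlt : h < q := by
      rw [hh, hq]; exact Nat.pow_lt_pow_right one_lt_two (by omega)
    obtain ⟨u, hu⟩ : ∃ u, q + 1 = u + h := ⟨q + 1 - h, by omega⟩
    have hprod : u * (u + 2 * h) = q ^ 2 + 1 := by nlinarith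
    have hk := Nat.eq_prime_pow_of_unique_prime_dvd (p := 5) (n := q ^ 2 + 1) (by omega)
      fun {d} hd hdv => hcon d hd hdv
    obtain ⟨i, -, hi⟩ := (Nat.dvd_prime_pow Nat.prime_five).1 (hk ▸ Dvd.intro (u + 2 * h) hprod)
    obtain ⟨j, -, hj⟩ := (Nat.dvd_prime_pow Nat.prime_five).1 (hk ▸ Dvd.intro_left u hprod)
    have hi1 : 1 ≤ i := by
      by_contra hlt'
      obtain rfl : i = 0 := by omega
      simp only [pow_zero] at hi
      omega
    have hj1 : 1 ≤ j := by
      by_contra hlt'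
      obtain rfl : j = 0 := by omega
      simp only [pow_zero] at hj
      omega
    have e1 : 5 ∣ u := hi ▸ dvd_pow_self 5 (by omega)
    have e2 : 5 ∣ u + 2 * h := hj ▸ dvd_pow_self 5 (by omega)
    have e3 : 5 ∣ 2 * h := (Nat.dvd_add_right e1).1 e2
    rw [hh, ← pow_succ'] at e3
    exact absurd ((Nat.prime_dvd_prime_iff_eq Nat.prime_five Nat.prime_two).1
      (Nat.prime_five.dvd_of_dvd_pow e3)) (by norm_num)
  have hb2 : b ≠ 2 := by
    rintro rfl
    have : 2 ∣ q ^ 2 := dvd_pow hq2 two_ne_zero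
    omega
  obtain ⟨a, ha, had, ha2, ha5⟩ : ∃ a, a.Prime ∧ a ∣ q - 1 ∧ a ≠ 2 ∧ a ≠ 5 := by
    obtain ⟨a, ha, had⟩ := Nat.exists_prime_and_dvd (show q - 1 ≠ 1 by omega)
    refine ⟨a, ha, had, ?_, ?_⟩
    · rintro rfl; omega
    · rintro rfl
      have : q % 5 = 2 ∨ q % 5 = 3 := by
        rw [hq, pow_succ, pow_mul, Nat.mul_mod, Nat.pow_mod]
        rcases Nat.even_or_odd' m with ⟨k, rfl | rfl⟩
        · left; rw [pow_mul, Nat.pow_mod]; norm_num
        · right; rw [pow_succ, pow_mul, Nat.mul_mod, Nat.pow_mod]; norm_num [Nat.mul_mod, Nat.pow_mod]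
      omega
  have hab : a ≠ b := by
    rintro rfl
    have h1 : a ∣ (q - 1) * (q + 1) + 2 := by
      have : (q - 1) * (q + 1) + 2 = q ^ 2 + 1 := by
        obtain ⟨j, hj⟩ : ∃ j, q = j + 1 := ⟨q - 1, by omega⟩
        rw [hj, Nat.add_sub_cancel]; ring
      rwa [this]
    exact ha2 ((Nat.prime_dvd_prime_iff_eq ha Nat.prime_two).1
      ((Nat.dvd_add_right (dvd_mul_of_dvd_left had _)).1 h1))
  obtain ⟨-, hT⟩ := four_primes h5 hna ha hb Nat.prime_five ha2 hb2 (by norm_num) hab ha5 hb5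
    (hcard ▸ dvd_mul_of_dvd_right had _) (hcard ▸ dvd_mul_of_dvd_left (dvd_mul_of_dvd_right hbd _) _)
    h5d
  obtain ⟨T⟩ := (inferInstance : Nonempty (Sylow 2 G))
  have hk : Nat.card G = 2 ^ (2 * (2 * m + 1)) * ((q ^ 2 + 1) * (q - 1)) := by
    rw [hcard, ← mul_assoc, mul_comm 2 (2 * m + 1), pow_mul]
  have hodd : ¬ 2 ∣ (q ^ 2 + 1) * (q - 1) := by
    intro h
    have : 2 ∣ q ^ 2 := dvd_pow hq2 two_ne_zero
    rcases Nat.prime_two.dvd_mul.1 h with h | h <;> omega
  have hp := hT T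
  rw [card_sylow_two T hk hodd, mul_comm 2 (2 * m + 1), pow_mul, ← hq,
    show q ^ 2 - 1 = (q - 1) * (q + 1) by
      rw [mul_comm, ← Nat.sq_sub_sq, one_pow]] at hp
  exact Nat.not_prime_mul (by omega) (by omega) hp

/-- Excluding `PSL₃(4)`. -/
theorem not_psl_three (h5 : Few G) (hna : ¬ IsMulCommutative G) {F : Type} [Field F] [Fintype F]
    (hF : Fintype.card F = 4) : IsEmpty (G ≃* Matrix.ProjectiveSpecialLinearGroup (Fin 3) F) := by
  refine ⟨fun e => ?_⟩
  have hc : Nat.card G = 20160 := (Nat.card_congr e.toEquiv).trans (Golay.card_psl_three_four hF)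
  obtain ⟨-, hT⟩ := four_primes h5 hna Nat.prime_three Nat.prime_five (by norm_num : Nat.Prime 7)
    (by norm_num) (by norm_num) (by norm_num) (by norm_num) (by norm_num) (by norm_num)
    (hc ▸ by norm_num) (hc ▸ by norm_num) (hc ▸ by norm_num)
  obtain ⟨T⟩ := (inferInstance : Nonempty (Sylow 2 G))
  have hp := hT T
  rw [card_sylow_two T (k := 6) (m := 315) (by rw [hc]; norm_num) (by norm_num)] at hp
  norm_num at hp

/-- The even characteristic case. -/
theorem psl_even (h5 : Few G) (hna : ¬ IsMulCommutative G) {F : Type} [Field F] [Fintype F] {n : ℕ}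
    (hF : Fintype.card F = 2 ^ n) (e : G ≃* Matrix.ProjectiveSpecialLinearGroup (Fin 2) F) :
    Fintype.card F = 4 ∨ Fintype.card F = 8 := by
  classical
  have hn0 : n ≠ 0 := by
    rintro rfl
    have := Fintype.one_lt_card (α := F)
    rw [hF, pow_zero] at this; omega
  have hcard : Nat.card G = 2 ^ n * ((2 ^ n - 1) * (2 ^ n + 1)) := by
    have h := Linear.card_PSL_two_mul (F := F)
    rw [hF] at h
    have hg : Nat.gcd 2 (2 ^ n - 1) = 1 := by
      rw [← Nat.coprime_iff_gcd_eq_one, Nat.coprime_two_left, Nat.odd_iff]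
      have : 2 ∣ 2 ^ n := dvd_pow_self 2 hn0
      have := Nat.one_le_pow n 2 two_pos
      omega
    rw [hg, one_mul] at h
    rw [Nat.card_congr e.toEquiv, h]
    congr 1
    rw [mul_comm, ← Nat.sq_sub_sq, one_pow]
  rcases lt_or_ge n 4 with hn4 | hn4
  · interval_cases n
    · exact absurd rfl hn0
    · exfalso
      obtain ⟨s, hs, hsd, hs2, hs3⟩ := exists_odd_prime_ne hna 3
      rw [hcard] at hsd
      norm_num at hsd
      have hle := Nat.le_of_dvd (by norm_num) hsd
      have := hs.two_le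
      interval_cases s <;> first | omega | (norm_num at hs) | (norm_num at hsd)
    · norm_num at hF; exact Or.inl hF
    · norm_num at hF; exact Or.inr hF
  exfalso
  obtain ⟨x, hx⟩ := H70.SpecCN.exists_order_succ_psl hF
  have hxe : orderOf (e.symm x) = 2 ^ n + 1 := by rw [MulEquiv.orderOf_eq, hx, hF]
  have h16 : 16 ≤ 2 ^ n := le_trans (by norm_num) (Nat.pow_le_pow_right two_pos hn4)
  have hev : 2 ∣ 2 ^ n := dvd_pow_self 2 hn0
  have hkey : ∀ u v : ℕ, u * v = (2 ^ n - 1) * (2 ^ n + 1) → 3 ∣ u → Odd u → Odd v →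
      Nat.Coprime u v → 1 < v → (∀ a, u ≠ 3 ^ a) →
      (∀ g : G, orderOf g = 1 ∨ (orderOf g).Prime) ∧
        ∀ T : Sylow 2 G, (Nat.card ↥(T : Subgroup G) - 1).Prime := by
    intro u v huv h3u hu hv hco hv1 hpow
    obtain ⟨a, ha, hau, ha3⟩ : ∃ a, a.Prime ∧ a ∣ u ∧ a ≠ 3 := by
      by_contra! hcon
      exact hpow _ (Nat.eq_prime_pow_of_unique_prime_dvd (by rintro rfl; simp at hu)
        fun {d} hd hdv => hcon d hd hdv)
    obtain ⟨b, hb, hbv⟩ := Nat.exists_prime_and_dvd hv1.ne'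
    have hb3 : b ≠ 3 := fun h => absurd (Nat.eq_one_of_dvd_coprimes hco h3u (h ▸ hbv)) (by norm_num)
    have hab : a ≠ b := fun h => ha.one_lt.ne' (Nat.eq_one_of_dvd_coprimes hco hau (h ▸ hbv))
    refine four_primes h5 hna Nat.prime_three ha hb (by norm_num) ?_ ?_ ha3.symm hb3.symm hab
      ?_ ?_ ?_
    · rintro rfl; exact absurd (hu.of_dvd_nat hau) (by decide)
    · rintro rfl; exact absurd (hv.of_dvd_nat hbv) (by decide)
    · rw [hcard, ← huv]; exact dvd_mul_of_dvd_right (dvd_mul_of_dvd_left h3u _) _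
    · rw [hcard, ← huv]; exact dvd_mul_of_dvd_right (dvd_mul_of_dvd_left hau _) _
    · rw [hcard, ← huv]; exact dvd_mul_of_dvd_right (dvd_mul_of_dvd_right hbv _) _
  have ho1 : Odd (2 ^ n - 1) := by rw [Nat.odd_iff]; omega
  have ho2 : Odd (2 ^ n + 1) := by rw [Nat.odd_iff]; omega
  have hco : Nat.Coprime (2 ^ n - 1) (2 ^ n + 1) := by
    rw [show 2 ^ n + 1 = 2 ^ n - 1 + 2 by omega, Nat.coprime_self_add_right, Nat.coprime_two_right]
    exact ho1
  obtain ⟨T⟩ := (inferInstance : Nonempty (Sylow 2 G))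
  have hTc : Nat.card ↥(T : Subgroup G) = 2 ^ n := card_sylow_two T hcard (by
    intro h
    rcases Nat.prime_two.dvd_mul.1 h with h | h <;> omega)
  rcases Nat.even_or_odd' n with ⟨k, hk | hk⟩
  · have h3 : 3 ∣ 2 ^ n - 1 := by
      have : 2 ^ n % 3 = 1 := by rw [hk, pow_mul, Nat.pow_mod]; norm_num
      omega
    obtain ⟨-, hT⟩ := hkey _ _ rfl h3 ho1 ho2 hco (by omega)
      fun a h => (no_pow_three (a := a) hn4).2 (by omega)
    have hp := hT T
    rw [hTc] at hp
    rcases (Nat.dvd_prime hp).1 h3 with h | h <;> omega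
  · have h3 : 3 ∣ 2 ^ n + 1 := by
      have : 2 ^ n % 3 = 2 := by rw [hk, pow_succ, pow_mul, Nat.mul_mod, Nat.pow_mod]; norm_num
      omega
    obtain ⟨hall, -⟩ := hkey _ _ (mul_comm _ _) h3 ho2 ho1 hco.symm (by omega)
      fun a h => (no_pow_three (a := a) hn4).1 h
    rcases hall (e.symm x) with h | h
    · rw [hxe] at h; omega
    · rw [hxe] at h
      rcases (Nat.dvd_prime h).1 h3 with h' | h' <;> omega

/-- The Fermat and Mersenne prime case. -/
theorem psl_odd (h5 : Few G) (hna : ¬ IsMulCommutative G) {F : Type} [Field F] [Fintype F] {k : ℕ}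
    (hp : (Fintype.card F).Prime) (hk : Fintype.card F = 2 ^ k + 1 ∨ Fintype.card F + 1 = 2 ^ k)
    (e : G ≃* Matrix.ProjectiveSpecialLinearGroup (Fin 2) F) :
    Fintype.card F = 5 ∨ Fintype.card F = 7 := by
  classical
  set p := Fintype.card F with hpdef
  have hcard : p * (p ^ 2 - 1) = Nat.gcd 2 (p - 1) * Nat.card G := by
    rw [Nat.card_congr e.toEquiv, Linear.card_PSL_two_mul (F := F)]
  obtain ⟨s, hs, hsd, hs2, hsp⟩ := exists_odd_prime_ne hna p
  rcases lt_or_ge k 4 with hk4 | hk4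
  · obtain ⟨t, ht, htd, ht2, ht3⟩ := exists_odd_prime_ne hna 3
    have htd' : t ∣ p * (p ^ 2 - 1) := hcard ▸ dvd_mul_of_dvd_right htd _
    have : p ≤ 9 := by
      have : 2 ^ k ≤ 8 := Nat.pow_le_pow_right two_pos (show k ≤ 3 by omega)
      omega
    have h2 := hp.two_le
    have := ht.two_le
    by_contra hne
    rw [not_or] at hne
    interval_cases hcv : p <;> first | omega | (norm_num at hp; done) |
      (norm_num at htd'
       have hle := Nat.le_of_dvd (by norm_num) htd'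
       interval_cases t <;> first | omega | (norm_num at ht) | (norm_num at htd'))
  exfalso
  have h16 : 16 ≤ 2 ^ k := le_trans (by norm_num) (Nat.pow_le_pow_right two_pos hk4)
  have hodd : p % 2 = 1 := by
    rcases hp.eq_two_or_odd with h | h <;> omega
  obtain ⟨x, hx⟩ : ∃ x : Matrix.ProjectiveSpecialLinearGroup (Fin 2) F,
      orderOf x = 2 ^ (k - 1) := by
    have h2k : 2 ^ k = 2 * 2 ^ (k - 1) := by rw [← pow_succ']; congr 1; omega
    rcases hk with h | h
    · obtain ⟨x, hx⟩ := H70.SpecCN.exists_order_half_psl (F := F) (hpdef ▸ hodd) false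
      refine ⟨x, hx.trans ?_⟩
      simp only [Bool.false_eq_true, if_false, ← hpdef]
      omega
    · obtain ⟨x, hx⟩ := H70.SpecCN.exists_order_half_psl (F := F) (hpdef ▸ hodd) true
      refine ⟨x, hx.trans ?_⟩
      simp only [if_true, ← hpdef]
      omega
  have hxg : orderOf (e.symm x) = 2 ^ (k - 1) := by rw [MulEquiv.orderOf_eq, hx]
  have h8 : 8 ∣ orderOf (e.symm x) := by
    rw [hxg]; exact (pow_dvd_pow 2 (show 3 ≤ k - 1 by omega) : 2 ^ 3 ∣ 2 ^ (k - 1))
  have hdvd : ∀ d, d ∣ 8 → ∃ g : G, orderOf g = d := fun d hd => by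
    refine ⟨(e.symm x) ^ (orderOf (e.symm x) / d), orderOf_pow_orderOf_div (orderOf_pos _).ne' (hd.trans h8)⟩
  have hpG : p ∣ Nat.card G :=
    ((Nat.Coprime.dvd_mul_left (by
      refine (hp.coprime_iff_not_dvd).2 fun h => ?_
      have := (Nat.prime_dvd_prime_iff_eq hp Nat.prime_two).1 (h.trans (Nat.gcd_dvd_left _ _))
      omega)).1 (hcard ▸ dvd_mul_right p _))
  haveI := Fintype.ofFinite G
  have hsub : ({1, 2, 4, 8, p, s} : Finset ℕ) ⊆ Finset.univ.image (orderOf : G → ℕ) := by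
    intro j hj
    simp only [Finset.mem_insert, Finset.mem_singleton] at hj
    rw [Finset.mem_image]
    rcases hj with rfl | rfl | rfl | rfl | rfl | rfl
    · exact ⟨1, Finset.mem_univ _, orderOf_one⟩
    · obtain ⟨g, hg⟩ := hdvd 2 (by norm_num); exact ⟨g, Finset.mem_univ _, hg⟩
    · obtain ⟨g, hg⟩ := hdvd 4 (by norm_num); exact ⟨g, Finset.mem_univ _, hg⟩
    · obtain ⟨g, hg⟩ := hdvd 8 dvd_rfl; exact ⟨g, Finset.mem_univ _, hg⟩
    · obtain ⟨g, hg⟩ := exists_of_prime_dvd hp hpG; exact ⟨g, Finset.mem_univ _, hg⟩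
    · obtain ⟨g, hg⟩ := exists_of_prime_dvd hs hsd; exact ⟨g, Finset.mem_univ _, hg⟩
  have h6 : ({1, 2, 4, 8, p, s} : Finset ℕ).card = 6 := by
    have := hs.two_le
    have hs4 : s ≠ 4 := fun h => by rw [h] at hs; norm_num at hs
    have hs8 : s ≠ 8 := fun h => by rw [h] at hs; norm_num at hs
    rw [Finset.card_insert_of_notMem, Finset.card_insert_of_notMem, Finset.card_insert_of_notMem,
      Finset.card_insert_of_notMem, Finset.card_insert_of_notMem, Finset.card_singleton] <;>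
      simp only [Finset.mem_insert, Finset.mem_singleton] <;> omega
  have := (Finset.card_le_card hsub).trans (orders_card_le h5)
  omega

end Cfsg.Agent.H76.FiveOrbits
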